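import Groth.Agent.SGA3a.NonAff.Borel

/-!
Borel subgroups and tori of a smooth group live in its neutral component.
-/

set_option autoImplicit false
set_option linter.unusedSectionVars false
set_option linter.style.haveILetI false
set_option backward.isDefEq.respectTransparency.types false

universe u

open CategoryTheory MonoidalCategory CartesianMonoidalCategory MonObj GrpObj AlgebraicGeometry

noncomputable section

namespace Groth.Agent.SGA3a.NonAff

open AlgGrp79

variable {k : Type u} [Field k] [IsAlgClosed k]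

local notation "pk" => 𝟙_ (Over (Spec (CommRingCat.of k)))

variable {G G₀ : Over (Spec (CommRingCat.of k))} [GrpObj G] [GrpObj G₀] (i : G₀ ⟶ G) [IsMonHom i]
  [IsClosedImmersion i.left]
  (hr : Set.range i.left = connectedComponent (η[G].left (IsLocalRing.closedPoint k)))

include hr

/-- connected reduced subgroups lie in the neutral component -/
theorem exists_factor_neutral {H : Over (Spec (CommRingCat.of k))} [GrpObj H] [IsReduced H.left]
    [ConnectedSpace H.left] (h : H ⟶ G) [IsMonHom h] : ∃ f : H ⟶ G₀, IsMonHom f ∧ f ≫ i = h := by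
  haveI : Mono i := Over.mono_of_mono_left i
  obtain ⟨f, hf⟩ := exists_lift_of_range_subset i h (by
    rw [hr, ← Set.image_univ]
    refine (isPreconnected_univ.image _ h.left.continuous.continuousOn).subset_connectedComponent ?_
    exact ⟨η[H].left (IsLocalRing.closedPoint k), trivial, by
      rw [← Scheme.Hom.comp_apply, ← Over.comp_left, IsMonHom.one_hom]⟩)
  exact ⟨f, AlgGrp33.AffineProper.isMonHom_of_mono f i h hf, hf⟩

/-- Borel subgroups are Borel subgroups of the neutral component -/
theorem exists_borel_neutral {B : Over (Spec (CommRingCat.of k))} [GrpObj B] {b : B ⟶ G}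
    (hB : Red.IsBorelOver k b) : ∃ b₀ : B ⟶ G₀, Red.IsBorelOver k b₀ ∧ b₀ ≫ i = b := by
  obtain ⟨_, _, _, _, hsol, hmax⟩ := hB
  haveI : IsReduced B.left := isReduced_of_smooth B.hom
  obtain ⟨b₀, hm, hb₀⟩ := exists_factor_neutral i hr b
  haveI := hm
  haveI : IsClosedImmersion b₀.left := by
    haveI : IsClosedImmersion (b₀.left ≫ i.left) := by rw [← Over.comp_left, hb₀]; infer_instance
    exact IsClosedImmersion.of_comp b₀.left i.left
  refine ⟨b₀, ⟨inferInstance, inferInstance, inferInstance, inferInstance, hsol, ?_⟩, hb₀⟩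
  intro B' _ i' _ f hi' hs' hc' hsol' hf
  haveI := hi'
  exact hmax B' (i' ≫ i) f (inferInstanceAs (IsClosedImmersion (i'.left ≫ i.left))) hs' hc' hsol'
    (by rw [← Category.assoc, hf, hb₀])

/-- maximal tori of the neutral component are maximal tori of the group -/
theorem isMaxTorus_comp_neutral {T : Over (Spec (CommRingCat.of k))} [GrpObj T] {t : T ⟶ G₀}
    (ht : AGF.IsMaxTorus t) : AGF.IsMaxTorus (t ≫ i) := by
  obtain ⟨_, _, hTt, hmax⟩ := ht
  haveI : Mono i := Over.mono_of_mono_left i
  refine ⟨inferInstance, inferInstance, hTt, ?_⟩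
  intro T' _ j _ _ f hT' hf
  obtain ⟨_, _, _, _, _⟩ := AlgGrp33.IsogSub.torus_props hT'
  haveI : IsReduced T'.left := isReduced_of_smooth T'.hom
  obtain ⟨j₀, hj₀m, hj₀⟩ := exists_factor_neutral i hr j
  haveI := hj₀m
  haveI : Mono j₀ := by
    haveI : Mono (j₀ ≫ i) := by rw [hj₀]; infer_instance
    exact mono_of_mono j₀ i
  exact hmax T' j₀ f hT' (by rw [← cancel_mono i, Category.assoc, hj₀, hf])

end Groth.Agent.SGA3a.NonAff
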