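import Groth.Agent.RedPts82.Coord
import Groth.Agent.GMod80.NoTorus
import Groth.Agent.AlgGrp79.TorusBC
import Groth.Prelude.Def_AGF

/-!
Maximal tori over an algebraically closed field: the geometric and the rational notion agree.
-/

set_option autoImplicit false
set_option linter.style.haveILetI false
set_option backward.isDefEq.respectTransparency.types false

universe u

open CategoryTheory MonoidalCategory CartesianMonoidalCategory MonObj GrpObj AlgebraicGeometry

noncomputable section

namespace Groth.Agent.SGA3a.NonAff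

variable {k : Type u} [Field k] [IsAlgClosed k]

theorem isMaximalTorus_of_isMaxTorus {G T : Over (Spec (CommRingCat.of k))} [GrpObj G] [GrpObj T] {i : T ⟶ G}
    (h : AGF.IsMaxTorus i) : Red.IsMaximalTorus i := by
  obtain ⟨hm, hmono, hTt, hmax⟩ := h
  haveI := hm
  haveI := hmono
  refine ⟨hm, hmono, hTt, fun s T' _ j _ _ f hT' hf => ?_⟩
  let p := Red.geomPt s
  haveI : IsIso p := GMod80.isIso_geomPt s
  let q := inv p
  let T'' := Red.bc q T'
  letI : GrpObj T'' := Functor.grpObjObj
  -- transport of points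
  let tr : ∀ X : Over (Spec (CommRingCat.of k)), X ≅ (Over.map p).obj ((Over.map q).obj X) := fun X =>
    Over.isoMk (Iso.refl _) (by
      show 𝟙 _ ≫ (X.hom ≫ q) ≫ p = X.hom
      rw [Category.id_comp, Category.assoc, IsIso.inv_hom_id, Category.comp_id])
  let E : ∀ X : Over (Spec (CommRingCat.of k)), (X ⟶ T'') → (X ⟶ G) := fun X x =>
    (tr X).hom ≫ RedPts82.toBase p (RedPts82.toBase q x ≫ j)
  have htr : ∀ {X Y : Over (Spec (CommRingCat.of k))} (g : X ⟶ Y),
      g ≫ (tr Y).hom = (tr X).hom ≫ (Over.map p).map ((Over.map q).map g) := fun g => by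
    ext : 1; simp [tr]
  have hnat : ∀ {X Y : Over (Spec (CommRingCat.of k))} (g : X ⟶ Y) (y : Y ⟶ T''), E X (g ≫ y) = g ≫ E Y y :=
    fun g y => by
      simp only [E]
      rw [RedPts82.toBase_comp q g y, Category.assoc,
        RedPts82.toBase_comp p ((Over.map q).map g) (RedPts82.toBase q y ≫ j), ← Category.assoc, ← htr g, Category.assoc]
  have hinj : ∀ X, Function.Injective (E X) := fun X a b hab => by
    simp only [E, cancel_epi] at hab
    exact RedPts82.toBase_injective q ((cancel_mono j).1 (RedPts82.toBase_injective p hab))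
  have hmul : ∀ (X : Over (Spec (CommRingCat.of k))) (a b : X ⟶ T''), E X (a * b) = E X a * E X b := fun X a b => by
    simp only [E]
    rw [RedPts82.toBase_mul, MonObj.mul_comp, RedPts82.toBase_mul, MonObj.comp_mul]
  let j'' : T'' ⟶ G := E T'' (𝟙 _)
  have hj : ∀ {X : Over (Spec (CommRingCat.of k))} (x : X ⟶ T''), x ≫ j'' = E X x := fun x => by
    rw [← hnat, Category.comp_id]
  haveI : IsMonHom j'' := AlgGrp79.isMonHom_of_forall j'' fun X a b => by rw [hj, hj, hj, hmul]
  haveI : Mono j'' := ⟨fun a b hab => hinj _ (by rw [← hj, ← hj]; exact hab)⟩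
  -- the torus
  let c : (Over.map q).obj T ⟶ Red.bc p T := RedPts82.ofBase p ((tr T).inv)
  let f'' : T ⟶ T'' := RedPts82.ofBase q (c ≫ f)
  have hf'' : f'' ≫ j'' = i := by
    rw [hj]
    show (tr T).hom ≫ RedPts82.toBase p (RedPts82.toBase q (RedPts82.ofBase q (c ≫ f)) ≫ j) = i
    rw [RedPts82.toBase_ofBase, Category.assoc, hf, RedPts82.toBase_comp_map, RedPts82.toBase_ofBase,
      Iso.hom_inv_id_assoc]
  haveI := hmax T'' j'' f'' (AlgGrp79.TorusBC.isTorus_bc q hT') hf''
  haveI : IsIso f''.left := ((Over.forget _).mapIso (asIso f'')).isIso_hom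
  have e : f''.left ≫ Limits.pullback.fst T'.hom q = c.left ≫ f.left := by
    rw [← RedPts82.toBase_left]
    show (RedPts82.toBase q (RedPts82.ofBase q (c ≫ f))).left = _
    rw [RedPts82.toBase_ofBase]; rfl
  have e2 : c.left ≫ Limits.pullback.fst T.hom p = 𝟙 _ := by
    rw [← RedPts82.toBase_left]
    show (RedPts82.toBase p (RedPts82.ofBase p ((tr T).inv))).left = _
    rw [RedPts82.toBase_ofBase]; rfl
  haveI : IsIso c.left := by
    haveI : IsIso (c.left ≫ Limits.pullback.fst T.hom p) := by rw [e2]; infer_instance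
    exact IsIso.of_isIso_comp_right c.left (Limits.pullback.fst T.hom p)
  haveI : IsIso (c.left ≫ f.left) := by rw [← e]; infer_instance
  haveI : IsIso f.left := IsIso.of_isIso_comp_left c.left f.left
  haveI : IsIso ((Over.forget _).map f) := ‹IsIso f.left›
  exact isIso_of_reflects_iso f (Over.forget _)

theorem isMaxTorus_of_isMaximalTorus {G T : Over (Spec (CommRingCat.of k))} [GrpObj G] [GrpObj T] {i : T ⟶ G}
    (h : Red.IsMaximalTorus i) : AGF.IsMaxTorus i := by
  obtain ⟨hm, hmono, hTt, hmax⟩ := h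
  let s : Spec (CommRingCat.of k) := IsLocalRing.closedPoint k
  refine ⟨hm, hmono, hTt, fun T' _ j _ _ f hT' hf => ?_⟩
  haveI := hmax s _ ((Over.pullback (Red.geomPt s)).map j) ((Over.pullback (Red.geomPt s)).map f)
    (AlgGrp79.TorusBC.isTorus_bc _ hT') (by rw [← Functor.map_comp, hf])
  haveI : IsIso (Red.geomPt s) := GMod80.isIso_geomPt s
  haveI : IsIso ((Over.pullback (Red.geomPt s)).map f).left :=
    ((Over.forget _).mapIso (asIso ((Over.pullback (Red.geomPt s)).map f))).isIso_hom
  have e : ((Over.pullback (Red.geomPt s)).map f).left ≫ Limits.pullback.fst T'.hom (Red.geomPt s) =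
      Limits.pullback.fst T.hom (Red.geomPt s) ≫ f.left := by simp only [Over.pullback, Over.homMk_left]; exact Limits.pullback.lift_fst _ _ _
  haveI : IsIso (Limits.pullback.fst T.hom (Red.geomPt s) ≫ f.left) := by rw [← e]; infer_instance
  haveI : IsIso f.left := IsIso.of_isIso_comp_left (Limits.pullback.fst T.hom (Red.geomPt s)) f.left
  haveI : IsIso ((Over.forget _).map f) := ‹IsIso f.left›
  exact isIso_of_reflects_iso f (Over.forget _)

theorem isMaximalTorus_iff {G T : Over (Spec (CommRingCat.of k))} [GrpObj G] [GrpObj T] {i : T ⟶ G} :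
    Red.IsMaximalTorus i ↔ AGF.IsMaxTorus i :=
  ⟨isMaxTorus_of_isMaximalTorus, isMaximalTorus_of_isMaxTorus⟩

end Groth.Agent.SGA3a.NonAff
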