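import Groth.Agent.SGA3a.NonAff.Radical
import Groth.Agent.AGF80.Descend
import Groth.Agent.AlgGrp79.FiniteKernelHom
import Groth.Agent.AlgGrp79.BorelDesc

/-!
Descent helpers for Borel subgroups over a field.
-/

set_option autoImplicit false
set_option linter.unusedSectionVars false
set_option linter.style.haveILetI false
set_option backward.isDefEq.respectTransparency.types false

universe u

open CategoryTheory MonoidalCategory CartesianMonoidalCategory MonObj GrpObj AlgebraicGeometry

noncomputable section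

namespace Groth.Agent.SGA3a.NonAff

open AlgGrp79

variable {k L : Type u} [Field k] [Field L] (f : Spec (CommRingCat.of L) ⟶ Spec (CommRingCat.of k))

/-- closed immersions descend along field extensions -/
theorem isClosedImmersion_of_bc_map {X Y : Over (Spec (CommRingCat.of k))} (i : X ⟶ Y)
    (h : IsClosedImmersion ((Over.pullback f).map i).left) : IsClosedImmersion i.left := by
  haveI := AGF80.GeomSub.flat_spec f
  haveI := AGF80.GeomSub.surjective_spec f
  haveI : MorphismProperty.DescendsAlong (@IsClosedImmersion : MorphismProperty Scheme.{u}) Unr55.fpqc.{u} :=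
    Unr55.isClosedImmersion
  exact MorphismProperty.of_isPullback_of_descendsAlong (P := @IsClosedImmersion) (Q := Unr55.fpqc.{u})
    (RedPts82.isPullback_bc_map i f).flip
    ⟨⟨MorphismProperty.pullback_fst (P := @Surjective) _ _ ‹Surjective f›,
      MorphismProperty.pullback_fst (P := @Flat) _ _ ‹Flat f›⟩,
      MorphismProperty.pullback_fst (P := @QuasiCompact) _ _ inferInstance⟩ h

/-- isomorphisms descend along field extensions -/
theorem isIso_of_bc_map {X Y : Over (Spec (CommRingCat.of k))} (i : X ⟶ Y)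
    (h : IsIso ((Over.pullback f).map i).left) : IsIso i := by
  haveI := AGF80.GeomSub.flat_spec f
  haveI := AGF80.GeomSub.surjective_spec f
  haveI : IsIso i.left := MorphismProperty.of_isPullback_of_descendsAlong
    (P := MorphismProperty.isomorphisms Scheme.{u}) (Q := Unr55.fpqc.{u})
    (RedPts82.isPullback_bc_map i f).flip
    ⟨⟨MorphismProperty.pullback_fst (P := @Surjective) _ _ ‹Surjective f›,
      MorphismProperty.pullback_fst (P := @Flat) _ _ ‹Flat f›⟩,
      MorphismProperty.pullback_fst (P := @QuasiCompact) _ _ inferInstance⟩ h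
  haveI : IsIso ((Over.forget _).map i) := ‹IsIso i.left›
  exact isIso_of_reflects_iso i (Over.forget _)

/-- the kernel of a homomorphism as a closed subgroup -/
theorem exists_kernel_grp {G H : Over (Spec (CommRingCat.of k))} [GrpObj G] [GrpObj H] [LocallyOfFiniteType H.hom]
    (q : G ⟶ H) [IsMonHom q] :
    ∃ (N : Over (Spec (CommRingCat.of k))) (_ : GrpObj N) (i : N ⟶ G), IsMonHom i ∧ IsClosedImmersion i.left ∧
      AlgGrp.IsKernel i q ∧ AlgGrp.IsNormalHom i := by
  haveI := isSeparated_grp H
  haveI : IsClosedImmersion (η[H] : 𝟙_ (Over (Spec (CommRingCat.of k))) ⟶ H).left := by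
    haveI : IsClosedImmersion ((η[H] : 𝟙_ (Over (Spec (CommRingCat.of k))) ⟶ H).left ≫ H.hom) := by
      rw [Over.w]; exact inferInstanceAs (IsClosedImmersion (𝟙 (Spec (CommRingCat.of k))))
    exact IsClosedImmersion.of_comp _ H.hom
  haveI : Mono (η[H] : 𝟙_ (Over (Spec (CommRingCat.of k))) ⟶ H) := Over.mono_of_mono_left _
  let N := Limits.pullback q (η[H] : 𝟙_ (Over (Spec (CommRingCat.of k))) ⟶ H)
  let i : N ⟶ G := Limits.pullback.fst _ _
  have sq : IsPullback i (Limits.pullback.snd q η[H]) q η[H] := IsPullback.of_hasPullback _ _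
  rw [show Limits.pullback.snd q η[H] = toUnit N from toUnit_unique _ _] at sq
  haveI : Mono i := inferInstanceAs (Mono (Limits.pullback.fst q η[H]))
  haveI : IsClosedImmersion i.left := MorphismProperty.of_isPullback (isPullback_left sq).flip inferInstance
  have hker : AlgGrp.IsKernel i q := sq
  have hiq : i ≫ q = 1 := by rw [sq.w, Hom.one_def]
  have h1 : ∃ z, z ≫ i = (1 : 𝟙_ (Over (Spec (CommRingCat.of k))) ⟶ G) := exists_ker_of_comp_one hker _ (MonObj.one_comp q)
  have hmul : ∃ z, z ≫ i = (fst N N ≫ i) * (snd N N ≫ i) := exists_ker_of_comp_one hker _ (by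
    rw [MonObj.mul_comp, Category.assoc, Category.assoc, hiq, MonObj.comp_one, MonObj.comp_one, _root_.one_mul])
  have hinv : ∃ z, z ≫ i = i⁻¹ := exists_ker_of_comp_one hker _ (by rw [GrpObj.inv_comp, hiq, inv_one])
  letI := SGA3a.grpObjOfMono i h1 hmul hinv
  exact ⟨N, inferInstance, i, SGA3a.isMonHom_grpObjOfMono i h1 hmul hinv, inferInstance, hker, fun X g y =>
    exists_ker_of_comp_one hker _ (by
      rw [MonObj.mul_comp, MonObj.mul_comp, Category.assoc, hiq, MonObj.comp_one, _root_.mul_one, GrpObj.inv_comp,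
        mul_inv_cancel]) |>.imp fun _ h => h.symm⟩

/-- a morphism descended along a covering homomorphism is a homomorphism -/
theorem isMonHom_of_cov_comp {G Q H : Over (Spec (CommRingCat.of k))} [GrpObj G] [GrpObj Q] [GrpObj H]
    (q : G ⟶ Q) [IsMonHom q] (hq : IsCov q) (d : Q ⟶ H) [IsMonHom (q ≫ d)] : IsMonHom d := by
  haveI := (hq.whiskerRight Q).epi
  haveI := (hq.whiskerLeft G).epi
  have hm : (fst Q Q * snd Q Q) ≫ d = (fst Q Q ≫ d) * (snd Q Q ≫ d) := by
    rw [← cancel_epi (q ▷ Q), ← cancel_epi (G ◁ q)]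
    simp only [← Category.assoc]
    have e1 : ((G ◁ q) ≫ q ▷ Q) ≫ fst Q Q = fst G G ≫ q := by simp
    have e2 : ((G ◁ q) ≫ q ▷ Q) ≫ snd Q Q = snd G G ≫ q := by simp
    rw [MonObj.comp_mul, MonObj.comp_mul, e1, e2, ← MonObj.mul_comp, Category.assoc, MonObj.mul_comp _ _ (q ≫ d),
      ← Category.assoc _ (fst Q Q) d, e1, ← Category.assoc _ (snd Q Q) d, e2, Category.assoc, Category.assoc]
  refine AlgGrp79.isMonHom_of_forall d fun X a b => ?_
  have := lift a b ≫= hm
  rwa [← Category.assoc, MonObj.comp_mul, MonObj.comp_mul, lift_fst, lift_snd, lift_fst_assoc, lift_snd_assoc]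
    at this

end Groth.Agent.SGA3a.NonAff
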