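import Groth.Agent.SGA3a.NonAff.Image
import Groth.Agent.SGA3a.NonAff.Bridge

/-!
Images of maximal tori and Cartan subgroups under surjective homomorphisms of connected smooth groups.
-/

set_option autoImplicit false
set_option linter.unusedSectionVars false
set_option linter.style.haveILetI false
set_option backward.isDefEq.respectTransparency.types false

universe u

open CategoryTheory MonoidalCategory CartesianMonoidalCategory MonObj GrpObj AlgebraicGeometry

noncomputable section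

namespace Groth.Agent.SGA3a.NonAff

open AlgGrp79

variable {k : Type u} [Field k] [IsAlgClosed k]

local notation "pk" => 𝟙_ (Over (Spec (CommRingCat.of k)))

/-- the preimage of a closed subgroup by a homomorphism -/
theorem exists_preimage' {G Q B : Over (Spec (CommRingCat.of k))} [GrpObj G] [GrpObj Q] [GrpObj B]
    [LocallyOfFiniteType G.hom] [QuasiCompact G.hom] (q : G ⟶ Q) [IsMonHom q]
    (iB : B ⟶ Q) [IsMonHom iB] [IsClosedImmersion iB.left] :
    ∃ (P : Over (Spec (CommRingCat.of k))) (_ : GrpObj P) (i : P ⟶ G) (π : P ⟶ B), IsMonHom i ∧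
      IsClosedImmersion i.left ∧ IsMonHom π ∧ LocallyOfFiniteType P.hom ∧ QuasiCompact P.hom ∧
      IsPullback i π q iB := by
  haveI : Mono iB := Over.mono_of_mono_left iB
  let P := Limits.pullback q iB
  let i : P ⟶ G := Limits.pullback.fst _ _
  let π : P ⟶ B := Limits.pullback.snd _ _
  have sq : IsPullback i π q iB := IsPullback.of_hasPullback _ _
  haveI : Mono i := inferInstanceAs (Mono (Limits.pullback.fst q iB))
  have hfac : ∀ {T : Over (Spec (CommRingCat.of k))} (x : T ⟶ G) (y : T ⟶ B), x ≫ q = y ≫ iB → ∃ z, z ≫ i = x :=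
    fun x y h => ⟨sq.lift x y h, sq.lift_fst _ _ _⟩
  have h1 : ∃ z, z ≫ i = (1 : pk ⟶ G) := hfac 1 1 (by rw [MonObj.one_comp, MonObj.one_comp])
  have hmul : ∃ z, z ≫ i = (fst P P ≫ i) * (snd P P ≫ i) :=
    hfac _ ((fst P P ≫ π) * (snd P P ≫ π)) (by
      rw [MonObj.mul_comp _ _ q, MonObj.mul_comp _ _ iB, Category.assoc, Category.assoc, Category.assoc, Category.assoc, sq.w])
  have hinv : ∃ z, z ≫ i = i⁻¹ := hfac _ π⁻¹ (by rw [GrpObj.inv_comp, GrpObj.inv_comp, sq.w])
  letI := SGA3a.grpObjOfMono i h1 hmul hinv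
  have hi : IsMonHom i := SGA3a.isMonHom_grpObjOfMono i h1 hmul hinv
  haveI := hi
  haveI : IsClosedImmersion i.left := MorphismProperty.of_isPullback (isPullback_left sq).flip inferInstance
  haveI : LocallyOfFiniteType P.hom := by rw [← Over.w i]; infer_instance
  haveI : QuasiCompact P.hom := by rw [← Over.w i]; infer_instance
  exact ⟨P, inferInstance, i, π, hi, inferInstance,
    AlgGrp33.AffineProper.isMonHom_of_mono π iB (i ≫ q) sq.w.symm, inferInstance, inferInstance, sq⟩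

/-- connected reduced subgroups lie in an open closed connected one -/
theorem exists_factor_open {P K H : Over (Spec (CommRingCat.of k))} [GrpObj P] [GrpObj K] [GrpObj H]
    [IsReduced H.left] [ConnectedSpace H.left] [ConnectedSpace K.left] (z : K ⟶ P) [IsMonHom z]
    [IsClosedImmersion z.left] (hz : IsOpen (Set.range z.left)) (h : H ⟶ P) [IsMonHom h] :
    ∃ f : H ⟶ K, IsMonHom f ∧ f ≫ z = h := by
  haveI : Mono z := Over.mono_of_mono_left z
  let e := η[P].left (IsLocalRing.closedPoint k)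
  have he : e ∈ Set.range z.left := ⟨η[K].left (IsLocalRing.closedPoint k), by
    rw [← Scheme.Hom.comp_apply, ← Over.comp_left, IsMonHom.one_hom]⟩
  have hsub : connectedComponent e ⊆ Set.range z.left :=
    IsClopen.connectedComponent_subset ⟨z.left.isClosedEmbedding.isClosed_range, hz⟩ he
  obtain ⟨f, hf⟩ := exists_lift_of_range_subset z h (by
    refine subset_trans ?_ hsub
    rw [← Set.image_univ]
    refine (isPreconnected_univ.image _ h.left.continuous.continuousOn).subset_connectedComponent ?_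
    exact ⟨η[H].left (IsLocalRing.closedPoint k), trivial, by
      rw [← Scheme.Hom.comp_apply, ← Over.comp_left, IsMonHom.one_hom]⟩)
  exact ⟨f, AlgGrp33.AffineProper.isMonHom_of_mono f z h hf, hf⟩

variable {G H : Over (Spec (CommRingCat.of k))} [GrpObj G] [GrpObj H] [Smooth G.hom] [QuasiCompact G.hom]
  [ConnectedSpace G.left] [Smooth H.hom] [QuasiCompact H.hom] [ConnectedSpace H.left]
  (v : G ⟶ H) [IsMonHom v] [Surjective v.left]
  {T : Over (Spec (CommRingCat.of k))} [GrpObj T] {i : T ⟶ G}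
  {V : Over (Spec (CommRingCat.of k))} [GrpObj V] (cv : V ⟶ H) [IsMonHom cv] [IsClosedImmersion cv.left]
  (w : T ⟶ V) [IsMonHom w]

/-- images of maximal tori are maximal tori -/
theorem isMaxTorus_image_hom (hi : AGF.IsMaxTorus i) (hVt : Red.IsTorus V) (hwv : w ≫ cv = i ≫ v) :
    AGF.IsMaxTorus cv := by
  obtain ⟨him, himono, hTt, -⟩ := id hi
  haveI := him
  haveI := himono
  haveI : Mono cv := Over.mono_of_mono_left cv
  obtain ⟨_, _, _, _, _⟩ := AlgGrp33.IsogSub.torus_props hVt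
  obtain ⟨_, _, _, _, _⟩ := AlgGrp33.IsogSub.torus_props hTt
  haveI : IsReduced T.left := isReduced_of_smooth T.hom
  refine ⟨inferInstance, inferInstance, hVt, ?_⟩
  intro T'' _ j _ _ f hT'' hf
  obtain ⟨_, _, _, _, _⟩ := AlgGrp33.IsogSub.torus_props hT''
  haveI := AGF80.BorelCor.isClosedImmersion_torus H hT'' j
  haveI : IsReduced T''.left := isReduced_of_smooth T''.hom
  haveI := isSeparated_grp H
  obtain ⟨P, _, c, π, hcm, hccl, hπm, hπ, hPft, hPqc, sq⟩ := exists_preimage v (isCov_of_surjective v) j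
  haveI := hcm
  haveI := hccl
  haveI := hπm
  haveI := hPft
  haveI := hPqc
  haveI := hπ.surj
  obtain ⟨K, _, z, hzm, hzcl, hKs, hKc, hzop⟩ := BorelQuot.exists_reduced_neutral P
  haveI := hzm
  haveI := hzcl
  haveI := hKs
  haveI := hKc
  haveI : QuasiCompact K.hom := by rw [← Over.w z]; infer_instance
  haveI : Mono z := Over.mono_of_mono_left z
  haveI : Mono c := Over.mono_of_mono_left c
  haveI := surjective_comp_open z hzop π fun y => BorelImage.exists_pt_lift π y
  haveI : Mono j := ‹_›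
  haveI : IsMonHom f := AlgGrp33.AffineProper.isMonHom_of_mono f j cv hf
  obtain ⟨tP, htP, htP2⟩ := sq.exists_lift i (w ≫ f) (by rw [Category.assoc, hf, hwv])
  haveI : IsMonHom tP := AlgGrp33.AffineProper.isMonHom_of_mono tP c i htP
  obtain ⟨tK, htKm, htK⟩ := exists_factor_open z hzop tP
  have htKmax : AGF.IsMaxTorus tK := AGF80.BorelCor.isMaxTorus_of_factor hi (z ≫ c) tK (by
    rw [← Category.assoc, htK, htP])
  obtain ⟨A⟩ := nonempty_affn K
  haveI := A.cov.surj
  obtain ⟨d, hd⟩ := A.cov.desc (z ≫ π) fun X a b hab => by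
    obtain ⟨m, hm⟩ := A.exists_eq_mul hab
    rw [hm, MonObj.mul_comp, Category.assoc m, AlgGrp33.Affinize.eq_one A.antiAff (A.m ≫ z ≫ π), MonObj.comp_one,
      _root_.mul_one]
  haveI : IsMonHom d := by
    haveI := (A.cov.whiskerRight A.Q).epi
    haveI := (A.cov.whiskerLeft K).epi
    have hm : (fst A.Q A.Q * snd A.Q A.Q) ≫ d = (fst A.Q A.Q ≫ d) * (snd A.Q A.Q ≫ d) := by
      rw [← cancel_epi (A.q ▷ A.Q), ← cancel_epi (K ◁ A.q)]
      simp only [← Category.assoc]
      have e1 : ((K ◁ A.q) ≫ A.q ▷ A.Q) ≫ fst A.Q A.Q = fst K K ≫ A.q := by simp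
      have e2 : ((K ◁ A.q) ≫ A.q ▷ A.Q) ≫ snd A.Q A.Q = snd K K ≫ A.q := by simp
      rw [MonObj.comp_mul, MonObj.comp_mul, e1, e2, ← MonObj.mul_comp, Category.assoc, hd,
        ← Category.assoc _ (fst A.Q A.Q) d, e1, ← Category.assoc _ (snd A.Q A.Q) d, e2, Category.assoc, Category.assoc,
        hd, MonObj.mul_comp]
    refine AlgGrp79.isMonHom_of_forall d fun X a b => ?_
    have := lift a b ≫= hm
    rwa [← Category.assoc, MonObj.comp_mul, MonObj.comp_mul, lift_fst, lift_snd, lift_fst_assoc, lift_snd_assoc]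
      at this
  haveI : Surjective d.left := by
    haveI : Surjective (A.q.left ≫ d.left) := by rw [← Over.comp_left, hd]; infer_instance
    exact Surjective.of_comp A.q.left d.left
  obtain ⟨VK, _, vK, wK, hwKm, hwK, hwKv, hvKcl, hVKmax⟩ := A.image_maxTorus htKmax
  obtain ⟨hvKm, -, hVKt, -⟩ := id hVKmax
  haveI := hvKm
  haveI := hwKm
  haveI := hwK.surj
  obtain ⟨V'', _, v'', p, hv''m, hv''cl, hpm, hp, hpv, hV''t⟩ := exists_torus_image hVKt (vK ≫ d)
  haveI := hv''m
  haveI := hv''cl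
  haveI := hp.surj
  obtain ⟨_, _, _, _, _⟩ := AlgGrp33.IsogSub.torus_props hV''t
  haveI : IsReduced V''.left := isReduced_of_smooth V''.hom
  obtain ⟨-, -, -, hmax''⟩ := TorusImage.isMaxTorus_image d hVKmax v'' p hpv
  haveI : IsIso v'' := hmax'' T'' (𝟙 T'') v'' hT'' (Category.comp_id _)
  haveI : IsIso v''.left := ((Over.forget _).mapIso (asIso v'')).isIso_hom
  haveI : IsClosedImmersion f.left := by
    haveI : IsClosedImmersion (f.left ≫ j.left) := by rw [← Over.comp_left, hf]; infer_instance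
    exact IsClosedImmersion.of_comp f.left j.left
  haveI : Surjective f.left := by
    have e : (wK ≫ p) ≫ v'' = w ≫ f := by
      rw [Category.assoc, hpv, reassoc_of% hwKv, hd, ← Category.assoc, htK, htP2]
    haveI : Surjective (w.left ≫ f.left) := by
      rw [← Over.comp_left, ← e, Over.comp_left, Over.comp_left]; infer_instance
    exact Surjective.of_comp w.left f.left
  exact BorelConj.isIso_of_surj f

/-- the image of the centraliser of a maximal torus is the centraliser of the image -/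
theorem isCentralizerOf_image (hi : AGF.IsMaxTorus i) (hVt : Red.IsTorus V) (hw : IsCov w) (hwv : w ≫ cv = i ≫ v)
    {C : Over (Spec (CommRingCat.of k))} [GrpObj C] {c : C ⟶ G} (hC : Red.IsCentralizerOf i c)
    {VC : Over (Spec (CommRingCat.of k))} [GrpObj VC] (vc : VC ⟶ H) [IsMonHom vc] [IsClosedImmersion vc.left]
    (wc : C ⟶ VC) (hwc : IsCov wc) (hwcv : wc ≫ vc = c ≫ v) : Red.IsCentralizerOf cv vc := by
  obtain ⟨him, himono, hTt, -⟩ := id hi
  obtain ⟨hcm, -, hCiff⟩ := id hC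
  haveI := him
  haveI := himono
  haveI := hcm
  haveI : Mono cv := Over.mono_of_mono_left cv
  haveI : Mono vc := Over.mono_of_mono_left vc
  obtain ⟨_, _, _, _, _⟩ := AlgGrp33.IsogSub.torus_props hVt
  obtain ⟨_, _, _, _, _⟩ := AlgGrp33.IsogSub.torus_props hTt
  haveI : IsReduced T.left := isReduced_of_smooth T.hom
  haveI := isSeparated_grp H
  haveI := isSeparated_grp G
  haveI := AGF80.BorelCor.isClosedImmersion_torus G hTt i
  obtain ⟨CH, _, cH, hCH, -, -⟩ := (Groth.Agent.S3006.result _ H V cv ‹_› hVt).1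
  obtain ⟨hcHm, hcHmono, hCHiff⟩ := id hCH
  haveI := hcHm
  haveI := hcHmono
  obtain ⟨AG⟩ := nonempty_affn G
  obtain ⟨-, -, hccl', -⟩ := AG.centralizer_props i hTt c hC
  haveI := hccl'
  obtain ⟨AH⟩ := nonempty_affn H
  obtain ⟨hCHs, hCHq, hcHcl, hCHc⟩ := AH.centralizer_props cv hVt cH hCH
  haveI := hCHs
  haveI := hCHq
  haveI := hcHcl
  haveI := hCHc
  haveI : IsReduced CH.left := isReduced_of_smooth CH.hom
  -- the image centralises
  obtain ⟨f, hf⟩ := (hCHiff VC vc).2 fun X x h => by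
    haveI := (hwc.whiskerRight V).epi
    haveI := (hw.whiskerLeft C).epi
    have hu : (fst VC V ≫ vc) * (snd VC V ≫ cv) = (snd VC V ≫ cv) * (fst VC V ≫ vc) := by
      rw [← cancel_epi (wc ▷ V), ← cancel_epi (C ◁ w)]
      simp only [MonObj.comp_mul, whiskerRight_fst_assoc, whiskerRight_snd_assoc, whiskerLeft_fst_assoc,
        whiskerLeft_snd_assoc, hwv, hwcv]
      have := (hCiff C c).1 ⟨𝟙 C, Category.id_comp c⟩ _ (fst C T) (snd C T)
      simp only [← Category.assoc]
      rw [← MonObj.mul_comp, ← MonObj.mul_comp, this]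
    simpa [MonObj.comp_mul] using lift x h ≫= hu
  -- the normaliser over the centraliser
  obtain ⟨N, _, n, hN, hncl, -⟩ := (Groth.Agent.S3006.result _ G T i ‹_› hTt).2
  obtain ⟨hnm, hnmono, hNiff⟩ := hN
  haveI := hnm
  haveI := hnmono
  haveI := hncl
  haveI : LocallyOfFiniteType N.hom := by rw [← Over.w n]; infer_instance
  haveI : QuasiCompact N.hom := by rw [← Over.w n]; infer_instance
  obtain ⟨N', _, n', ρ, hn'm, hn'cl, hρm, hN'ft, hN'qc, sqN⟩ := exists_preimage' (n ≫ v) cH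
  haveI := hn'm
  haveI := hn'cl
  haveI := hρm
  haveI := hN'ft
  haveI := hN'qc
  -- the preimage of the torus
  obtain ⟨P, _, p, π, hpm, hpcl, hπm, hπ, hPft, hPqc, sqP⟩ := exists_preimage v (isCov_of_surjective v) cv
  haveI := hpm
  haveI := hpcl
  haveI := hπm
  haveI := hPft
  haveI := hPqc
  obtain ⟨K, _, z, hzm, hzcl, hKs, hKc, hzop⟩ := BorelQuot.exists_reduced_neutral P
  haveI := hzm
  haveI := hzcl
  haveI := hKs
  haveI := hKc
  haveI : QuasiCompact K.hom := by rw [← Over.w z]; infer_instance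
  haveI : Mono z := Over.mono_of_mono_left z
  haveI : Mono p := Over.mono_of_mono_left p
  haveI := hw.surj
  obtain ⟨tP, htP, -⟩ := sqP.exists_lift i w hwv.symm
  haveI : IsMonHom tP := AlgGrp33.AffineProper.isMonHom_of_mono tP p i htP
  obtain ⟨tK, htKm, htK⟩ := exists_factor_open z hzop tP
  have htKmax : AGF.IsMaxTorus tK := AGF80.BorelCor.isMaxTorus_of_factor hi (z ≫ p) tK (by
    rw [← Category.assoc, htK, htP])
  have hlift : ∀ y : pk ⟶ CH, ∃ x : pk ⟶ N', x ≫ ρ = y := by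
    intro y
    obtain ⟨g, hg⟩ := BorelImage.exists_pt_lift v (y ≫ cH)
    have hyv : AGF.conjBy (y ≫ cH) cv = cv := by
      have := (hCHiff pk (y ≫ cH)).1 ⟨y, rfl⟩ V (toUnit V) (𝟙 V)
      rw [Category.id_comp] at this
      simp only [AGF.conjBy]
      rw [this, mul_inv_cancel_right]
    haveI := BorelConj.isMonHom_conjBy g i
    haveI := BorelConj.isClosedImmersion_conjBy g i
    obtain ⟨gP, hgP, -⟩ := sqP.exists_lift (AGF.conjBy g i) w (by
      have e : AGF.conjBy g i ≫ v = AGF.conjBy (g ≫ v) (i ≫ v) := by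
        simp only [AGF.conjBy, MonObj.mul_comp, GrpObj.inv_comp, Category.assoc]
      rw [e, hg, ← hwv, ← BorelConj.comp_conjBy, hyv])
    haveI : IsMonHom gP := AlgGrp33.AffineProper.isMonHom_of_mono gP p _ hgP
    obtain ⟨gK, hgKm, hgK⟩ := exists_factor_open z hzop gP
    have hgKmax : AGF.IsMaxTorus gK :=
      AGF80.BorelCor.isMaxTorus_of_factor (AGF80.BorelCor.isMaxTorus_conjBy hi g) (z ≫ p) gK (by
        rw [← Category.assoc, hgK, hgP])
    obtain ⟨r, φ, hφ⟩ := maxTorus_conj htKmax hgKmax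
    let rG : pk ⟶ G := r ≫ z ≫ p
    have hr : AGF.conjBy rG i = φ.hom ≫ AGF.conjBy g i := by
      have := congrArg (· ≫ z ≫ p) hφ
      simp only [AGF.conjBy, MonObj.mul_comp, GrpObj.inv_comp, Category.assoc, reassoc_of% htK,
        reassoc_of% hgK, htP, hgP] at this
      exact this
    have hn₀ : φ.hom ≫ i = AGF.conjBy (g⁻¹ * rG) i := by
      rw [← BorelConj.conjBy_conjBy, hr, BorelConj.comp_conjBy, BorelConj.conjBy_conjBy,
        inv_mul_cancel, BorelConj.conjBy_one]
    have hn₁ : φ.inv ≫ i = AGF.conjBy (g⁻¹ * rG)⁻¹ i := by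
      have e : AGF.conjBy (g⁻¹ * rG)⁻¹ (φ.hom ≫ i) = i := by
        rw [hn₀, BorelConj.conjBy_conjBy, inv_mul_cancel, BorelConj.conjBy_one]
      calc φ.inv ≫ i = φ.inv ≫ AGF.conjBy (g⁻¹ * rG)⁻¹ (φ.hom ≫ i) := by rw [e]
        _ = AGF.conjBy (g⁻¹ * rG)⁻¹ i := by rw [BorelConj.comp_conjBy, Iso.inv_hom_id_assoc]
    obtain ⟨τ, hτ⟩ := BorelImage.exists_pt_lift w (r ≫ z ≫ π)
    have hτv : (τ ≫ i) ≫ v = rG ≫ v := by
      rw [Category.assoc, ← hwv, ← Category.assoc, hτ]
      simp only [rG, Category.assoc, sqP.w]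
    obtain ⟨x₀, hx₀⟩ : ∃ x₀ : pk ⟶ N, x₀ ≫ n = (τ ≫ i) * (g⁻¹ * rG)⁻¹ := (hNiff pk _).2 fun X' x h => by
      have e0 : ∀ q : pk ⟶ G, x ≫ q = toUnit X' ≫ q := fun q => by rw [toUnit_unique x (toUnit X')]
      have hc : ∀ q : X' ⟶ T, (x ≫ τ ≫ i) * (q ≫ i) = (q ≫ i) * (x ≫ τ ≫ i) := fun q => by
        rw [← Category.assoc, ← MonObj.mul_comp _ _ i, ← MonObj.mul_comp _ _ i, mul_comm (x ≫ τ)]
      refine ⟨⟨h ≫ φ.inv, ?_⟩, h ≫ φ.hom, ?_⟩
      · rw [MonObj.comp_mul, GrpObj.comp_inv]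
        have e1 : (h ≫ φ.inv) ≫ i = (x ≫ (g⁻¹ * rG))⁻¹ * (h ≫ i) * (x ≫ (g⁻¹ * rG)) := by
          rw [Category.assoc, hn₁, BorelConj.comp_conjBy, e0]
          simp only [AGF.conjBy, GrpObj.comp_inv, _root_.inv_inv]
        rw [e1]
        have e2 := hc (h ≫ φ.inv)
        rw [e1] at e2
        rw [_root_.mul_inv_rev, _root_.inv_inv, ← _root_.mul_assoc, _root_.mul_assoc (x ≫ τ ≫ i),
          _root_.mul_assoc (x ≫ τ ≫ i), e2, mul_inv_cancel_right]
      · rw [MonObj.comp_mul, GrpObj.comp_inv]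
        have e1 : (h ≫ φ.hom) ≫ i = (x ≫ (g⁻¹ * rG)) * (h ≫ i) * (x ≫ (g⁻¹ * rG))⁻¹ := by
          rw [Category.assoc, hn₀, BorelConj.comp_conjBy, e0]
        rw [e1]
        have ec : Commute (x ≫ τ ≫ i) (h ≫ i) := hc h
        generalize x ≫ (g⁻¹ * rG) = A
        generalize x ≫ τ ≫ i = t at ec ⊢
        generalize h ≫ i = q at ec ⊢
        calc (t * A⁻¹)⁻¹ * q * (t * A⁻¹) = A * (t⁻¹ * q) * t * A⁻¹ := by group
          _ = A * (q * t⁻¹) * t * A⁻¹ := by rw [ec.inv_left.eq]
          _ = A * q * A⁻¹ := by group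
    obtain ⟨x, -, hx⟩ := sqN.exists_lift x₀ y (by
      rw [← Category.assoc, hx₀, _root_.mul_inv_rev, _root_.inv_inv, MonObj.mul_comp, MonObj.mul_comp,
        GrpObj.inv_comp, hτv, mul_inv_cancel_left, hg])
    exact ⟨x, hx⟩
  obtain ⟨K₂, _, z₂, hz₂m, hz₂cl, hK₂s, hK₂c, hz₂op⟩ := BorelQuot.exists_reduced_neutral N'
  haveI := hz₂m
  haveI := hz₂cl
  haveI := hK₂s
  haveI := hK₂c
  haveI : QuasiCompact K₂.hom := by rw [← Over.w z₂]; infer_instance
  haveI : IsReduced K₂.left := isReduced_of_smooth K₂.hom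
  haveI := surjective_comp_open z₂ hz₂op ρ hlift
  obtain ⟨a, ha⟩ := AGF80.BorelCor.exists_factor_of_pts (z₂ ≫ n' ≫ n) c fun r => by
    refine (hCiff pk _).2 fun X' x h => ?_
    have key := comm_of_normalizes hTt i (z₂ ≫ n' ≫ n) (fun r => by
      obtain ⟨⟨h', hh'⟩, -⟩ := (hNiff pk (r ≫ z₂ ≫ n' ≫ n)).1
        ⟨r ≫ z₂ ≫ n', by simp only [Category.assoc]⟩ T (toUnit T) (𝟙 T)
      rw [Category.id_comp] at hh'
      exact ⟨h', hh'.symm⟩) r
    have := h ≫= key
    rw [BorelConj.comp_conjBy] at this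
    simp only [AGF.conjBy] at this
    rw [toUnit_unique x (toUnit X')]
    exact mul_inv_eq_iff_eq_mul.1 this
  have e : (z₂ ≫ ρ) = a ≫ wc ≫ f := by
    rw [← cancel_mono cH]
    simp only [Category.assoc, hf, hwcv, ← sqN.w, reassoc_of% ha]
  haveI : Surjective f.left := by
    haveI : Surjective ((a ≫ wc).left ≫ f.left) := by
      rw [← Over.comp_left, Category.assoc, ← e]; infer_instance
    exact Surjective.of_comp (a ≫ wc).left f.left
  haveI : IsClosedImmersion f.left := by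
    haveI : IsClosedImmersion (f.left ≫ cH.left) := by rw [← Over.comp_left, hf]; infer_instance
    exact IsClosedImmersion.of_comp f.left cH.left
  haveI : IsIso f := BorelConj.isIso_of_surj f
  refine ⟨inferInstance, inferInstance, fun X g => Iff.trans ⟨?_, ?_⟩ (hCHiff X g)⟩
  · rintro ⟨y, rfl⟩
    exact ⟨y ≫ f, by rw [Category.assoc, hf]⟩
  · rintro ⟨y, rfl⟩
    exact ⟨y ≫ inv f, by rw [Category.assoc, ← hf, IsIso.inv_hom_id_assoc]⟩

end Groth.Agent.SGA3a.NonAff
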