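import Groth.Agent.SGA3a.NonAff.Central
import Groth.Agent.Prim37.GenGrp
import Groth.Agent.AGF80.UnipRad
import Groth.Agent.S7983

/-!
Every subtorus of a connected group is conjugate into any given maximal torus.
-/

set_option autoImplicit false
set_option linter.unusedSectionVars false
set_option linter.style.haveILetI false
set_option backward.isDefEq.respectTransparency.types false

universe u

open CategoryTheory MonoidalCategory CartesianMonoidalCategory MonObj GrpObj AlgebraicGeometry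

noncomputable section

namespace Groth.Agent.SGA3a.NonAff

open AlgGrp79

variable {k : Type u} [Field k] [IsAlgClosed k]

local notation "pk" => 𝟙_ (Over (Spec (CommRingCat.of k)))

/-- the image of a torus is a torus -/
theorem exists_torus_image {T H : Over (Spec (CommRingCat.of k))} [GrpObj T] [GrpObj H]
    [LocallyOfFiniteType H.hom] [QuasiCompact H.hom] (hT : Red.IsTorus T) (f : T ⟶ H) [IsMonHom f] :
    ∃ (V : Over (Spec (CommRingCat.of k))) (_ : GrpObj V) (i : V ⟶ H) (w : T ⟶ V), IsMonHom i ∧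
      IsClosedImmersion i.left ∧ IsMonHom w ∧ IsCov w ∧ w ≫ i = f ∧ Red.IsTorus V := by
  obtain ⟨_, _, _, _, _⟩ := AlgGrp33.IsogSub.torus_props hT
  obtain ⟨V, _, i, w, hi, hcl, hw, hwi, hcov, hVs, hVq, -, -⟩ := exists_smooth_image f
  haveI := hw
  haveI := hVs
  haveI := hVq
  haveI := hcov.surj
  haveI := hcov.flat
  haveI : IsAffine V.left := (Groth.Agent.S7983.result k T V w).1 inferInstance
  haveI : IsReduced V.left := isReduced_of_smooth V.hom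
  exact ⟨V, inferInstance, i, w, hi, hcl, hw, hcov, hwi, TorusImage.isTorus_image hT w⟩

/-- two commuting tori lie in one -/
theorem exists_torus_ge {T₁ T₂ H : Over (Spec (CommRingCat.of k))} [GrpObj T₁] [GrpObj T₂] [GrpObj H]
    [LocallyOfFiniteType H.hom] [QuasiCompact H.hom] (h₁ : Red.IsTorus T₁) (h₂ : Red.IsTorus T₂)
    (i₁ : T₁ ⟶ H) [IsMonHom i₁] (i₂ : T₂ ⟶ H) [IsMonHom i₂]
    (hc : ∀ (X : Over (Spec (CommRingCat.of k))) (a : X ⟶ T₁) (b : X ⟶ T₂), (a ≫ i₁) * (b ≫ i₂) = (b ≫ i₂) * (a ≫ i₁)) :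
    ∃ (S : Over (Spec (CommRingCat.of k))) (_ : GrpObj S) (j : S ⟶ H), IsMonHom j ∧ Mono j ∧ Red.IsTorus S ∧
      (∃ a : T₁ ⟶ S, a ≫ j = i₁) ∧ ∃ b : T₂ ⟶ S, b ≫ j = i₂ := by
  obtain ⟨_, _, _, _, _⟩ := AlgGrp33.IsogSub.torus_props h₁
  obtain ⟨_, _, _, _, _⟩ := AlgGrp33.IsogSub.torus_props h₂
  haveI := isSeparated_grp H
  let f : T₁ ⊗ T₂ ⟶ H := (fst T₁ T₂ ≫ i₁) * (snd T₁ T₂ ≫ i₂)
  have hf : ∀ {X : Over (Spec (CommRingCat.of k))} (x : X ⟶ T₁ ⊗ T₂),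
      x ≫ f = ((x ≫ fst T₁ T₂) ≫ i₁) * ((x ≫ snd T₁ T₂) ≫ i₂) := fun x => by simp [f, MonObj.comp_mul]
  haveI : IsMonHom f := AlgGrp79.isMonHom_of_forall f fun X s t => by
    rw [hf, hf, hf, MonObj.mul_comp _ _ (fst T₁ T₂), MonObj.mul_comp _ _ (snd T₁ T₂), MonObj.mul_comp, MonObj.mul_comp]
    exact Commute.mul_mul_mul_comm (hc X (t ≫ fst T₁ T₂) (s ≫ snd T₁ T₂)) _ _
  haveI : Smooth (T₁ ⊗ T₂).hom := by
    show Smooth (Limits.pullback.fst T₁.hom T₂.hom ≫ T₁.hom); infer_instance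
  haveI : IsAffine (T₁ ⊗ T₂).left := inferInstanceAs (IsAffine (Limits.pullback T₁.hom T₂.hom))
  haveI : QuasiCompact (T₁ ⊗ T₂).hom := inferInstance
  haveI : ConnectedSpace (T₁ ⊗ T₂).left := Prim37.connectedSpace_tensor T₁ T₂
  haveI : IsCommMonObj (T₁ ⊗ T₂) := inferInstance
  obtain ⟨V, _, i, w, hi, hcl, hw, hwi, hcov, hVs, hVq, hVc, hVsol⟩ := exists_smooth_image f
  haveI := hi
  haveI := hcl
  haveI := hw
  haveI := hVs
  haveI := hVq
  haveI := hcov.surj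
  haveI := hcov.flat
  haveI : ConnectedSpace V.left := hVc inferInstance
  haveI : IsAffine V.left := (Groth.Agent.S7983.result k (T₁ ⊗ T₂) V w).1 inferInstance
  obtain ⟨T₀, _, j₀, hj₀, hj₀cl, hT₀, huniv⟩ :=
    ToriConj.exists_maxTorus V (hVsol (AGF80.UnipRad.isSolvableGrp_comm _))
  haveI := hj₀
  haveI := hj₀cl
  haveI : Mono i := Over.mono_of_mono_left i
  haveI : Mono j₀ := Over.mono_of_mono_left j₀
  have hVcomm : ∀ (X : Over (Spec (CommRingCat.of k))) (x y : X ⟶ V), x * y = y * x := by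
    haveI := (hcov.whiskerRight V).epi
    haveI := (hcov.whiskerLeft (T₁ ⊗ T₂)).epi
    have h : fst V V * snd V V = snd V V * fst V V := by
      rw [← cancel_epi (w ▷ V), ← cancel_epi ((T₁ ⊗ T₂) ◁ w)]
      simp only [MonObj.comp_mul, whiskerRight_fst, whiskerRight_snd, whiskerLeft_fst_assoc, whiskerLeft_snd]
      rw [← MonObj.mul_comp _ _ w, ← MonObj.mul_comp _ _ w, mul_comm (fst (T₁ ⊗ T₂) (T₁ ⊗ T₂))]
    intro X x y
    simpa [MonObj.comp_mul] using lift x y ≫= h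
  have hcv : ∀ b : pk ⟶ V, AGF.conjBy b j₀ = j₀ := fun b => by
    simp only [AGF.conjBy]
    rw [hVcomm _ _ j₀, mul_inv_cancel_right]
  have ha : lift (𝟙 T₁) (1 : T₁ ⟶ T₂) ≫ f = i₁ := by simp [hf, MonObj.one_comp]
  have hb : lift (1 : T₂ ⟶ T₁) (𝟙 T₂) ≫ f = i₂ := by simp [hf, MonObj.one_comp]
  haveI : IsMonHom (lift (𝟙 T₁) (1 : T₁ ⟶ T₂)) := AlgGrp79.isMonHom_of_forall _ fun X s t => by
    apply CartesianMonoidalCategory.hom_ext <;> simp [MonObj.mul_comp, MonObj.comp_one]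
  haveI : IsMonHom (lift (1 : T₂ ⟶ T₁) (𝟙 T₂)) := AlgGrp79.isMonHom_of_forall _ fun X s t => by
    apply CartesianMonoidalCategory.hom_ext <;> simp [MonObj.mul_comp, MonObj.comp_one]
  obtain ⟨b₁, φ₁, e₁⟩ := huniv T₁ h₁ (lift (𝟙 T₁) (1 : T₁ ⟶ T₂) ≫ w)
  obtain ⟨b₂, φ₂, e₂⟩ := huniv T₂ h₂ (lift (1 : T₂ ⟶ T₁) (𝟙 T₂) ≫ w)
  rw [hcv] at e₁ e₂
  exact ⟨T₀, inferInstance, j₀ ≫ i, inferInstance, inferInstance, hT₀,
    ⟨φ₁, by rw [reassoc_of% e₁, hwi, ha]⟩, ⟨φ₂, by rw [reassoc_of% e₂, hwi, hb]⟩⟩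

/-- in an affine connected group there is a torus into which every torus is conjugate -/
theorem exists_universal_torus (Q : Over (Spec (CommRingCat.of k))) [GrpObj Q] [IsAffine Q.left] [Smooth Q.hom]
    [ConnectedSpace Q.left] :
    ∃ (T₀ : Over (Spec (CommRingCat.of k))) (_ : GrpObj T₀) (j₀ : T₀ ⟶ Q), IsMonHom j₀ ∧ IsClosedImmersion j₀.left ∧
      Red.IsTorus T₀ ∧ ∀ (T : Over (Spec (CommRingCat.of k))) [GrpObj T], Red.IsTorus T → ∀ (f : T ⟶ Q) [IsMonHom f],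
        ∃ (g : pk ⟶ Q) (φ : T ⟶ T₀), φ ≫ AGF.conjBy g j₀ = f := by
  obtain ⟨B, _, iB, _, _, _, _, hsB, X, a, o, hX, _⟩ := BorelConj.exists_solvable_proper Q
  haveI : IsAffine B.left := isAffine_of_isAffineHom iB.left
  haveI : Mono iB := Over.mono_of_mono_left iB
  obtain ⟨T₁, _, j₁, _, _, hT₁, hconj⟩ := ToriConj.exists_maxTorus B hsB
  haveI : IsClosedImmersion (j₁ ≫ iB).left := inferInstanceAs (IsClosedImmersion (j₁.left ≫ iB.left))
  refine ⟨T₁, inferInstance, j₁ ≫ iB, inferInstance, inferInstance, hT₁, fun T _ hT f _ => ?_⟩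
  obtain ⟨_, _, _, _, _⟩ := AlgGrp33.IsogSub.torus_props hT
  obtain ⟨g, φ, hφ⟩ := BorelConj.exists_conj_into iB hX (AGF80.BorelCor.isSolvableGrp_torus hT) f
  haveI := BorelConj.isMonHom_conjBy g iB
  haveI : Mono (AGF.conjBy g iB) := by
    haveI := BorelConj.isClosedImmersion_conjBy g iB
    exact Over.mono_of_mono_left _
  haveI := AGF80.BorelCor.isMonHom_factor φ (AGF.conjBy g iB) f hφ
  obtain ⟨b, χ, hχ⟩ := hconj T hT φ
  refine ⟨g * (b ≫ iB), χ, ?_⟩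
  rw [← hφ, ← hχ, BorelConj.comp_conjBy, BorelConj.comp_conjBy, BorelConj.comp_conjBy, ← BorelConj.conjBy_conjBy]
  congr 1
  simp only [AGF.conjBy, MonObj.mul_comp, GrpObj.inv_comp, Category.assoc]

variable {G : Over (Spec (CommRingCat.of k))} [GrpObj G] [Smooth G.hom] [QuasiCompact G.hom] [ConnectedSpace G.left]

/-- every torus is conjugate into a given maximal torus -/
theorem exists_conj_into_maxTorus {T : Over (Spec (CommRingCat.of k))} [GrpObj T] {i : T ⟶ G}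
    (hi : AGF.IsMaxTorus i) (T' : Over (Spec (CommRingCat.of k))) [GrpObj T'] (hT' : Red.IsTorus T') (f : T' ⟶ G)
    [IsMonHom f] : ∃ (g : pk ⟶ G) (φ : T' ⟶ T), φ ≫ AGF.conjBy g i = f := by
  obtain ⟨A⟩ := nonempty_affn G
  obtain ⟨him, himono, hTt, hmax⟩ := hi
  haveI := him
  haveI := himono
  haveI := A.cov.surj
  obtain ⟨T₀, _, j₀, hj₀, hj₀cl, hT₀, huniv⟩ := exists_universal_torus A.Q
  haveI := hj₀
  haveI := hj₀cl
  obtain ⟨_, _, _, _, _⟩ := AlgGrp33.IsogSub.torus_props hT₀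
  obtain ⟨P, _, c, π, hc, hccl, hπm, hπ, hPft, hPqc, sq⟩ := exists_preimage A.q A.cov j₀
  haveI := hc
  haveI := hccl
  haveI := hπm
  haveI := hPft
  haveI := hPqc
  haveI : Mono c := Over.mono_of_mono_left c
  obtain ⟨hPs, -, hPc, -⟩ := A.preimage_props c π hπ j₀ sq
  haveI := hPs
  haveI := hPc inferInstance
  have intoP : ∀ (S : Over (Spec (CommRingCat.of k))) [GrpObj S], Red.IsTorus S → ∀ (s : S ⟶ G) [IsMonHom s],
      ∃ (g : pk ⟶ G) (σ : S ⟶ P), IsMonHom σ ∧ σ ≫ c = AGF.conjBy g s := by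
    intro S _ hS s _
    obtain ⟨g₀, φ, hφ⟩ := huniv S hS (s ≫ A.q)
    obtain ⟨g, rfl⟩ := BorelImage.exists_pt_lift A.q g₀
    haveI := BorelConj.isMonHom_conjBy g⁻¹ s
    have e : AGF.conjBy g⁻¹ s ≫ A.q = φ ≫ j₀ := by
      have : AGF.conjBy g⁻¹ s ≫ A.q = AGF.conjBy (g ≫ A.q)⁻¹ (s ≫ A.q) := by
        simp only [AGF.conjBy, MonObj.mul_comp, GrpObj.inv_comp, Category.assoc]
      rw [this, ← hφ, BorelConj.comp_conjBy, BorelConj.conjBy_conjBy, inv_mul_cancel, BorelConj.conjBy_one]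
    obtain ⟨σ, hσ, -⟩ := sq.exists_lift (AGF.conjBy g⁻¹ s) φ e
    exact ⟨g⁻¹, σ, AlgGrp33.AffineProper.isMonHom_of_mono σ c _ hσ, hσ⟩
  obtain ⟨g, σ, hσm, hσ⟩ := intoP T hTt i
  obtain ⟨g', σ', hσm', hσ'⟩ := intoP T' hT' f
  haveI := hσm
  haveI := hσm'
  haveI := BorelConj.isMonHom_conjBy g i
  haveI := BorelConj.isMonHom_conjBy g' f
  obtain ⟨S, _, j, hj, hjmono, hS, ⟨a, ha⟩, b, hb⟩ := exists_torus_ge hTt hT' (AGF.conjBy g i) (AGF.conjBy g' f)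
    fun X x y => by
      rw [← hσ, ← hσ', ← Category.assoc, ← Category.assoc]
      exact A.comm_of_torus_image c hT₀ π hπ j₀ sq.w.symm X _ _
  haveI := hj
  haveI := hjmono
  haveI := BorelConj.isMonHom_conjBy g⁻¹ j
  haveI : Mono (AGF.conjBy g⁻¹ j) := ⟨fun {Z} x y h => by
    rw [BorelConj.comp_conjBy, BorelConj.comp_conjBy] at h
    have h' := congrArg (AGF.conjBy g) h
    simp only [BorelConj.conjBy_conjBy, mul_inv_cancel, BorelConj.conjBy_one] at h'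
    exact (cancel_mono j).1 h'⟩
  haveI : IsIso a := hmax S (AGF.conjBy g⁻¹ j) a hS (by
    rw [BorelConj.comp_conjBy, ha, BorelConj.conjBy_conjBy, inv_mul_cancel, BorelConj.conjBy_one])
  refine ⟨g'⁻¹ * g, b ≫ inv a, ?_⟩
  rw [BorelConj.comp_conjBy, Category.assoc]
  have h1 : inv a ≫ i = AGF.conjBy g⁻¹ j := by
    rw [IsIso.inv_comp_eq, BorelConj.comp_conjBy, ha, BorelConj.conjBy_conjBy, inv_mul_cancel, BorelConj.conjBy_one]
  rw [h1, BorelConj.comp_conjBy, hb, BorelConj.conjBy_conjBy, BorelConj.conjBy_conjBy, mul_inv_cancel_right,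
    inv_mul_cancel, BorelConj.conjBy_one]

/-- maximal tori are conjugate -/
theorem maxTorus_conj {T₁ T₂ : Over (Spec (CommRingCat.of k))} [GrpObj T₁] [GrpObj T₂] {i₁ : T₁ ⟶ G} {i₂ : T₂ ⟶ G}
    (h₁ : AGF.IsMaxTorus i₁) (h₂ : AGF.IsMaxTorus i₂) :
    ∃ (g : pk ⟶ G) (φ : T₁ ≅ T₂), AGF.conjBy g i₁ = φ.hom ≫ i₂ := by
  obtain ⟨him, himono, hTt, -⟩ := id h₁
  obtain ⟨_, _, hT₂, hmax⟩ := id h₂
  haveI := him
  obtain ⟨g, φ, hφ⟩ := exists_conj_into_maxTorus h₁ T₂ hT₂ i₂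
  obtain ⟨hgm, hgmono, -, -⟩ := AGF80.BorelCor.isMaxTorus_conjBy h₁ g
  haveI := hgm
  haveI := hgmono
  haveI : IsIso φ := hmax T₁ (AGF.conjBy g i₁) φ hTt hφ
  exact ⟨g, (asIso φ).symm, (IsIso.eq_inv_comp φ).2 hφ⟩

end Groth.Agent.SGA3a.NonAff
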