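import Groth.Agent.AGF80.Nilp
import Groth.Agent.SGA3a.Transporter
import Groth.Agent.RedPts82.Bridge
import Groth.Agent.S4112
import Groth.Agent.AlgSt88.UnrLqf

/-!
Torsion points of tori are dense and morphisms from connected varieties to finite sets are constant.
-/

set_option autoImplicit false
set_option linter.unusedSectionVars false
set_option linter.style.haveILetI false
set_option backward.isDefEq.respectTransparency.types false

universe u

open CategoryTheory MonoidalCategory CartesianMonoidalCategory MonObj GrpObj AlgebraicGeometry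

noncomputable section

namespace Groth.Agent.SGA3a.NonAff

open AlgGrp79

variable {k : Type u} [Field k] [IsAlgClosed k]

local notation "pk" => 𝟙_ (Over (Spec (CommRingCat.of k)))

theorem exists_prime_ne_zero : ∃ ℓ : ℕ, ℓ.Prime ∧ (ℓ : k) ≠ 0 := by
  by_cases h : (2 : k) = 0
  · refine ⟨3, Nat.prime_three, fun h3 => one_ne_zero (α := k) ?_⟩
    linear_combination (h3 : (3 : k) = 0) - h
  · exact ⟨2, Nat.prime_two, by exact_mod_cast h⟩

/-- morphisms from a torus to a separated scheme agreeing on torsion are equal -/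
theorem eq_of_torsion {T Y : Over (Spec (CommRingCat.of k))} [GrpObj T] (hT : Red.IsTorus T)
    [IsSeparated Y.hom] (a b : T ⟶ Y) {ℓ : ℕ} (hℓ : 1 < ℓ) (hℓk : (ℓ : k) ≠ 0)
    (h : ∀ (t : pk ⟶ T) (j : ℕ), t ^ (ℓ ^ j) = 1 → t ≫ a = t ≫ b) : a = b := by
  obtain ⟨_, _, _, _, _⟩ := AlgGrp33.IsogSub.torus_props hT
  let E := Limits.pullback (lift a b) (lift (𝟙 Y) (𝟙 Y))
  let e₁ : E ⟶ T := Limits.pullback.fst _ _
  have he₁ : e₁ ≫ a = e₁ ≫ b := by
    have w := Limits.pullback.condition (f := lift a b) (g := lift (𝟙 Y) (𝟙 Y))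
    have w1 := congrArg (· ≫ fst Y Y) w
    have w2 := congrArg (· ≫ snd Y Y) w
    simp only [Category.assoc, lift_fst, lift_snd, Category.comp_id] at w1 w2
    exact w1.trans w2.symm
  have huniv : ∀ t : pk ⟶ T, t ≫ a = t ≫ b → ∃ t', t' ≫ e₁ = t := fun t ht =>
    ⟨Limits.pullback.lift t (t ≫ a) (by apply CartesianMonoidalCategory.hom_ext <;> simp [ht]), Limits.pullback.lift_fst _ _ _⟩
  haveI : IsClosedImmersion (lift (𝟙 Y) (𝟙 Y)).left := SGA3a.isClosedImmersion_diag Y
  haveI : IsClosedImmersion e₁.left :=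
    MorphismProperty.of_isPullback (isPullback_left (IsPullback.of_hasPullback _ _)).flip inferInstance
  haveI : IsAffine E.left := isAffine_of_isAffineHom e₁.left
  have hinj : Function.Injective e₁.left.appTop := by
    rw [injective_iff_map_eq_zero]
    intro c hc
    haveI : IsAffine (Red.Ga (Spec (CommRingCat.of k))).left :=
      @isAffine_bc_terminal k _ Red.GaZ (inferInstanceAs (IsAffine (Spec (CommRingCat.of _))))
    have h1 : RedPts82.gaPt (X := T) c = RedPts82.gaPt (X := T) (0 : Γ(T.left, ⊤)) := by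
      refine AGF80.Nilp.torus_hom_ext hT _ _ hℓ hℓk fun t j ht => ?_
      obtain ⟨t', rfl⟩ := huniv t (h t j ht)
      rw [Category.assoc, Category.assoc]
      congr 1
      apply RedPts82.gaFn_injective
      rw [RedPts82.gaFn_comp, RedPts82.gaFn_comp, RedPts82.gaFn_gaPt, RedPts82.gaFn_gaPt, map_zero]
      exact hc
    have := congrArg Red.gaFn h1
    rwa [RedPts82.gaFn_gaPt, RedPts82.gaFn_gaPt] at this
  haveI : IsIso e₁.left.appTop :=
    (ConcreteCategory.isIso_iff_bijective _).2 ⟨hinj, (IsClosedImmersion.isAffine_surjective_of_isAffine e₁.left).2⟩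
  haveI : IsIso e₁.left := by
    haveI : IsIso (e₁.left ≫ T.left.toSpecΓ) := by rw [Scheme.toSpecΓ_naturality]; infer_instance
    exact IsIso.of_isIso_comp_right e₁.left T.left.toSpecΓ
  haveI : IsIso ((Over.forget _).map e₁) := ‹IsIso e₁.left›
  haveI : IsIso e₁ := isIso_of_reflects_iso e₁ (Over.forget _)
  exact (cancel_epi e₁).1 he₁

/-- finitely many torsion points -/
theorem finite_torsion {M : Over (Spec (CommRingCat.of k))} [GrpObj M] [IsCommMonObj M]
    [LocallyOfFiniteType M.hom] [QuasiCompact M.hom] {n : ℕ} (hn : (n : k) ≠ 0) :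
    {p : pk ⟶ M | p ^ n = 1}.Finite := by
  let f : M ⟶ M := (𝟙 M : M ⟶ M) ^ n
  haveI : Etale f.left := Groth.Agent.S4112.result k M n hn
  haveI := isSeparated_grp M
  haveI : QuasiCompact f.left := by
    haveI : QuasiCompact (f.left ≫ M.hom) := by rw [Over.w]; infer_instance
    exact QuasiCompact.of_comp f.left M.hom
  haveI : LocallyQuasiFinite f.left := (AlgSt88.unr_le_lqf f.left ⟨inferInstance, inferInstance⟩).1
  let e₀ := η[M].left (IsLocalRing.closedPoint k)
  have hfin : (f.left ⁻¹' {e₀}).Finite := f.left.finite_preimage_singleton e₀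
  refine Set.Finite.of_finite_image (f := fun p : pk ⟶ M => p.left (IsLocalRing.closedPoint k))
    (hfin.subset ?_) fun p _ q _ hpq => AlgGrp79.pt_ext p q hpq
  rintro _ ⟨p, hp, rfl⟩
  show f.left (p.left _) = e₀
  rw [← Scheme.Hom.comp_apply, ← Over.comp_left, MonObj.comp_pow, Category.comp_id, hp, one_def', Over.comp_left,
    Scheme.Hom.comp_apply]
  congr 1

/-- a morphism from a connected scheme of finite type with finitely many rational values is constant -/
theorem const_of_finite {X Y : Over (Spec (CommRingCat.of k))} [LocallyOfFiniteType X.hom] [ConnectedSpace X.left]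
    [LocallyOfFiniteType Y.hom] (f : X ⟶ Y) {F : Set (pk ⟶ Y)} (hF : F.Finite) (hf : ∀ p : pk ⟶ X, p ≫ f ∈ F)
    (p q : pk ⟶ X) : p ≫ f = q ≫ f := by
  haveI : JacobsonSpace X.left := LocallyOfFiniteType.jacobsonSpace X.hom
  let o := IsLocalRing.closedPoint k
  let Z : (pk ⟶ Y) → Set X.left := fun y => f.left ⁻¹' {y.left o}
  have hZc : ∀ y, IsClosed (Z y) := fun y => (AlgGrp79.rat_isClosed y).preimage f.left.continuous
  have hcov : ⋃ y ∈ F, Z y = Set.univ := by
    refine Set.eq_univ_of_univ_subset ?_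
    rw [← closure_closedPoints (X := X.left)]
    refine (hF.isClosed_biUnion fun y _ => hZc y).closure_subset_iff.2 fun z hz => ?_
    obtain ⟨r, hr⟩ := AlgGrp79.ptVal_eq z hz
    refine Set.mem_biUnion (hf r) ?_
    show f.left z = _
    rw [Over.comp_left, Scheme.Hom.comp_apply, hr]
  have hdis : ∀ y y', (Z y ∩ Z y').Nonempty → y = y' := fun y y' ⟨z, h1, h2⟩ =>
    AlgGrp79.pt_ext y y' (h1.symm.trans h2)
  let y₀ := p ≫ f
  have hopen : IsOpen (Z y₀) := by
    rw [← isClosed_compl_iff]
    have e : (Z y₀)ᶜ = ⋃ y ∈ F \ {y₀}, Z y := by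
      ext z
      constructor
      · intro hz
        obtain ⟨y, hy, hzy⟩ := Set.mem_iUnion₂.1 (hcov.ge (Set.mem_univ z))
        exact Set.mem_biUnion ⟨hy, fun e => hz (e ▸ hzy)⟩ hzy
      · intro hz hz0
        obtain ⟨y, hy, hzy⟩ := Set.mem_iUnion₂.1 hz
        exact hy.2 (hdis y y₀ ⟨z, hzy, hz0⟩)
    rw [e]
    exact (hF.subset Set.sdiff_subset).isClosed_biUnion fun y _ => hZc y
  have huniv : Z y₀ = Set.univ := IsClopen.eq_univ ⟨hZc _, hopen⟩ ⟨p.left o, by
    show f.left (p.left o) = _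
    rfl⟩
  refine AlgGrp79.pt_ext _ _ ?_
  have hq : q.left o ∈ Z y₀ := huniv.ge (Set.mem_univ _)
  exact hq.symm

end Groth.Agent.SGA3a.NonAff
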