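import Groth.Agent.SGA3a.NonAff.Base
import Groth.Agent.SGA3a.NonAff.Torsion
import Groth.Agent.AlgGrp79.CentTorus

/-!
Central extensions of tori by anti-affine groups are commutative; centralisers of tori are connected.
-/

set_option autoImplicit false
set_option linter.unusedSectionVars false
set_option linter.style.haveILetI false
set_option backward.isDefEq.respectTransparency.types false

universe u

open CategoryTheory MonoidalCategory CartesianMonoidalCategory MonObj GrpObj AlgebraicGeometry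

noncomputable section

namespace Groth.Agent.SGA3a.NonAff

open AlgGrp79

variable {k : Type u} [Field k] [IsAlgClosed k]

local notation "pk" => 𝟙_ (Over (Spec (CommRingCat.of k)))

variable {G : Over (Spec (CommRingCat.of k))} [GrpObj G] [Smooth G.hom] [QuasiCompact G.hom] (A : Affn G)

/-- a connected family commuting modulo the centre with a point torsion modulo the centre commutes with it -/
theorem Affn.comm_of_torsion {X : Over (Spec (CommRingCat.of k))} [LocallyOfFiniteType X.hom] [IsReduced X.left]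
    [ConnectedSpace X.left] (f : X ⟶ G) (y : pk ⟶ G)
    (hq : ∀ p : pk ⟶ X, ((p ≫ f) * y) ≫ A.q = (y * (p ≫ f)) ≫ A.q)
    {n : ℕ} (hn : (n : k) ≠ 0) (hy : (y ^ n) ≫ A.q = 1) (p₀ : pk ⟶ X) (h₀ : (p₀ ≫ f) * y = y * (p₀ ≫ f))
    (p : pk ⟶ X) : (p ≫ f) * y = y * (p ≫ f) := by
  haveI := isSeparated_grp A.Q
  haveI := isSeparated_grp A.M
  haveI : Mono A.m := Over.mono_of_mono_left A.m
  let δ : X ⟶ G := f * (toUnit X ≫ y) * f⁻¹ * (toUnit X ≫ y)⁻¹
  have hδ : ∀ r : pk ⟶ X, r ≫ δ = (r ≫ f) * y * (r ≫ f)⁻¹ * y⁻¹ := fun r => by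
    simp only [δ, MonObj.comp_mul, GrpObj.comp_inv, comp_toUnit_assoc]
    rw [show toUnit pk = 𝟙 pk from toUnit_unique _ _, Category.id_comp]
  have hδq : δ ≫ A.q = 1 := BorelFixed.hom_ext_pts _ _ fun r => by
    rw [MonObj.comp_one, ← Category.assoc, hδ, MonObj.mul_comp, MonObj.mul_comp, GrpObj.inv_comp,
      GrpObj.inv_comp, hq r, MonObj.mul_comp]
    group
  obtain ⟨c, hc⟩ := exists_ker_of_comp_one A.ker δ hδq
  obtain ⟨w, hw⟩ := exists_ker_of_comp_one A.ker (y ^ n) hy
  have hfin := finite_torsion (M := A.M) hn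
  have hval : ∀ r : pk ⟶ X, r ≫ c ∈ {p : pk ⟶ A.M | p ^ n = 1} := fun r => by
    show (r ≫ c) ^ n = 1
    rw [← cancel_mono A.m, MonObj.one_comp, MonObj.pow_comp, Category.assoc, hc]
    set x := r ≫ f
    set z := r ≫ δ
    have hz : z * y = x * y * x⁻¹ := by
      show (r ≫ δ) * y = (r ≫ f) * y * (r ≫ f)⁻¹
      rw [hδ r]; group
    have hzc : Commute z y := by
      have : z = (r ≫ c) ≫ A.m := by rw [Category.assoc, hc]
      rw [this]
      exact A.central pk _ y
    have hyc : Commute x (y ^ n) := by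
      rw [← hw]
      exact (A.central pk w x).symm
    have h1 : z ^ n * y ^ n = y ^ n := by
      rw [← hzc.mul_pow, hz, conj_pow, hyc.eq, mul_inv_cancel_right]
    exact mul_eq_right.1 h1
  have hconst := const_of_finite c hfin hval p p₀
  have h1 : p ≫ δ = p₀ ≫ δ := by rw [← hc, ← Category.assoc, hconst, Category.assoc]
  rw [hδ, hδ, h₀, mul_inv_cancel_right, mul_inv_cancel, mul_inv_eq_one, mul_inv_eq_iff_eq_mul] at h1
  exact h1

/-- a smooth connected subgroup which is a central extension of a torus is commutative -/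
theorem Affn.comm_of_torus_image {P T : Over (Spec (CommRingCat.of k))} [GrpObj P] [GrpObj T] [Smooth P.hom]
    [QuasiCompact P.hom] [ConnectedSpace P.left] (i : P ⟶ G) [IsMonHom i] (hT : Red.IsTorus T)
    (π : P ⟶ T) [IsMonHom π] (hπ : IsCov π) (t : T ⟶ A.Q) [IsMonHom t] (ht : π ≫ t = i ≫ A.q)
    (X : Over (Spec (CommRingCat.of k))) (a b : X ⟶ P) : (a ≫ i) * (b ≫ i) = (b ≫ i) * (a ≫ i) := by
  obtain ⟨_, _, _, _, _⟩ := AlgGrp33.IsogSub.torus_props hT
  haveI := isSeparated_grp G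
  haveI := isSeparated_grp A.M
  haveI := hπ.surj
  obtain ⟨ℓ, hℓp, hℓk⟩ := exists_prime_ne_zero (k := k)
  have hq : ∀ (Y : Over (Spec (CommRingCat.of k))) (x y : Y ⟶ P),
      ((x ≫ i) * (y ≫ i)) ≫ A.q = ((y ≫ i) * (x ≫ i)) ≫ A.q := fun Y x y => by
    simp only [MonObj.mul_comp, Category.assoc, ← ht]
    rw [← Category.assoc, ← Category.assoc y, ← MonObj.mul_comp _ _ t, ← MonObj.mul_comp _ _ t, mul_comm (x ≫ π)]
  haveI : IsReduced P.left := isReduced_of_smooth P.hom
  -- torsion lifts commute with everything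
  have step : ∀ (y : pk ⟶ P) (j : ℕ), (y ≫ π) ^ (ℓ ^ j) = 1 → ∀ x : pk ⟶ P,
      (x ≫ i) * (y ≫ i) = (y ≫ i) * (x ≫ i) := fun y j hy x => by
    refine A.comm_of_torsion i (y ≫ i) (fun p => hq _ p y) (n := ℓ ^ j) (by push_cast; exact pow_ne_zero _ hℓk) ?_
      1 (by rw [MonObj.one_comp, _root_.one_mul, _root_.mul_one]) x
    rw [MonObj.pow_comp, Category.assoc, ← ht, ← Category.assoc, ← MonObj.pow_comp, hy, MonObj.one_comp]
  have main : ∀ x y : pk ⟶ P, (x ≫ i) * (y ≫ i) = (y ≫ i) * (x ≫ i) := fun x => by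
    let xc : P ⟶ G := toUnit P ≫ x ≫ i
    let δ : P ⟶ G := xc * i * xc⁻¹ * i⁻¹
    have hδ : ∀ {Y : Over (Spec (CommRingCat.of k))} (r : Y ⟶ P),
        r ≫ δ = (toUnit Y ≫ x ≫ i) * (r ≫ i) * (toUnit Y ≫ x ≫ i)⁻¹ * (r ≫ i)⁻¹ := fun r => by
      simp only [δ, xc, MonObj.comp_mul, GrpObj.comp_inv, comp_toUnit_assoc]
    have hδq : δ ≫ A.q = 1 := by
      have := hq P (toUnit P ≫ x) (𝟙 P)
      simp only [Category.assoc, Category.id_comp] at this
      simp only [δ, xc, MonObj.mul_comp, GrpObj.inv_comp] at this ⊢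
      rw [this]; group
    obtain ⟨c, hc⟩ := exists_ker_of_comp_one A.ker δ hδq
    obtain ⟨d, hd⟩ := hπ.desc c fun Y a b hab => by
      haveI : Mono A.m := Over.mono_of_mono_left A.m
      rw [← cancel_mono A.m, Category.assoc, Category.assoc, hc, hδ, hδ]
      obtain ⟨w, hw⟩ := A.exists_eq_mul (a := a ≫ i) (b := b ≫ i) (by
        rw [Category.assoc, Category.assoc, ← ht, ← Category.assoc, hab, Category.assoc])
      rw [hw]
      set g := toUnit Y ≫ x ≫ i
      set h := a ≫ i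
      set z := w ≫ A.m
      have hz : Commute z g⁻¹ := A.central Y w g⁻¹
      calc g * h * g⁻¹ * h⁻¹ = g * h * (g⁻¹ * z) * z⁻¹ * h⁻¹ := by group
        _ = g * h * (z * g⁻¹) * z⁻¹ * h⁻¹ := by rw [hz.eq]
        _ = g * (h * z) * g⁻¹ * (h * z)⁻¹ := by group
    have hd1 : d = 1 := eq_of_torsion hT d 1 hℓp.one_lt hℓk fun τ j hτ => by
      obtain ⟨y, rfl⟩ := BorelImage.exists_pt_lift π τ
      haveI : Mono A.m := Over.mono_of_mono_left A.m
      have e : (y ≫ π) ≫ d = y ≫ c := by rw [Category.assoc, hd]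
      rw [← cancel_mono A.m, e, MonObj.comp_one, MonObj.one_comp, Category.assoc, hc, hδ, show toUnit pk = 𝟙 pk from toUnit_unique _ _, Category.id_comp,
        step y j hτ x, mul_inv_cancel_right, mul_inv_cancel]
    intro y
    have h0 : y ≫ δ = 1 := by rw [← hc, ← hd, hd1, MonObj.comp_one, MonObj.one_comp, MonObj.comp_one]
    rw [hδ, show toUnit pk = 𝟙 pk from toUnit_unique _ _, Category.id_comp, mul_inv_eq_one,
      mul_inv_eq_iff_eq_mul] at h0
    exact h0
  haveI : IsReduced (P ⊗ P).left := by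
    haveI : Smooth (P ⊗ P).hom := by
      show Smooth (Limits.pullback.fst P.hom P.hom ≫ P.hom); infer_instance
    exact isReduced_of_smooth (P ⊗ P).hom
  haveI : LocallyOfFiniteType (P ⊗ P).hom := by
    show LocallyOfFiniteType (Limits.pullback.fst P.hom P.hom ≫ P.hom); infer_instance
  have huniv : (fst P P ≫ i) * (snd P P ≫ i) = (snd P P ≫ i) * (fst P P ≫ i) :=
    BorelFixed.hom_ext_pts _ _ fun r => by
      simp only [MonObj.comp_mul, ← Category.assoc]
      exact main _ _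
  have := lift a b ≫= huniv
  simpa [MonObj.comp_mul] using this

include A in
/-- the centraliser of a subtorus is the preimage of the centraliser of its image in the affinization -/
theorem Affn.centralizer_isPullback [ConnectedSpace G.left] {T : Over (Spec (CommRingCat.of k))} [GrpObj T] (j : T ⟶ G) [IsMonHom j]
    (hT : Red.IsTorus T) {C : Over (Spec (CommRingCat.of k))} [GrpObj C] (c : C ⟶ G)
    (hC : Red.IsCentralizerOf j c) {T' : Over (Spec (CommRingCat.of k))} [GrpObj T'] (t' : T' ⟶ A.Q) [IsMonHom t']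
    [IsClosedImmersion t'.left] (w : T ⟶ T') [IsMonHom w] (hw : IsCov w) (hwt : w ≫ t' = j ≫ A.q)
    (hT' : Red.IsTorus T') {CQ : Over (Spec (CommRingCat.of k))} [GrpObj CQ] (cQ : CQ ⟶ A.Q)
    (hCQ : Red.IsCentralizerOf t' cQ) :
    ∃ π : C ⟶ CQ, IsMonHom π ∧ IsCov π ∧ IsPullback c π A.q cQ ∧ Smooth C.hom ∧ QuasiCompact C.hom ∧
      IsClosedImmersion c.left ∧ ConnectedSpace C.left := by
  obtain ⟨_, _, _, _, _⟩ := AlgGrp33.IsogSub.torus_props hT
  obtain ⟨_, _, _, _, _⟩ := AlgGrp33.IsogSub.torus_props hT'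
  haveI := isSeparated_grp G
  haveI := isSeparated_grp A.Q
  haveI := hw.surj
  haveI : Mono t' := Over.mono_of_mono_left t'
  obtain ⟨hCQs, hcQcl, hCQc⟩ := CentTorus.centralizer_props A.Q t' hT' cQ hCQ
  haveI := hcQcl
  haveI := hCQs
  obtain ⟨hcQm, -, hCQiff⟩ := hCQ
  haveI := hcQm
  haveI := hCQc
  haveI : QuasiCompact CQ.hom := by rw [← Over.w cQ]; infer_instance
  obtain ⟨C', _, c', π, hc'm, hc'cl, hπm, hπ, hC'ft, hC'qc, sq⟩ := exists_preimage A.q A.cov cQ
  haveI := hc'm
  haveI := hc'cl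
  haveI := hπm
  haveI := hC'ft
  haveI := hC'qc
  obtain ⟨hC's, -, hC'c, -⟩ := A.preimage_props c' π hπ cQ sq
  haveI := hC's
  haveI := hC'c inferInstance
  haveI : IsReduced C'.left := isReduced_of_smooth C'.hom
  obtain ⟨ℓ, hℓp, hℓk⟩ := exists_prime_ne_zero (k := k)
  have main : ∀ (g : pk ⟶ C') (τ : pk ⟶ T), (g ≫ c') * (τ ≫ j) = (τ ≫ j) * (g ≫ c') := by
    have hq : ∀ (g : pk ⟶ C') (τ : pk ⟶ T),
        ((g ≫ c') * (τ ≫ j)) ≫ A.q = ((τ ≫ j) * (g ≫ c')) ≫ A.q := fun g τ => by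
      have := (hCQiff _ (g ≫ π ≫ cQ)).1 ⟨g ≫ π, Category.assoc _ _ _⟩ _ (𝟙 _) (τ ≫ w)
      rw [Category.id_comp, Category.assoc τ, hwt] at this
      simpa only [MonObj.mul_comp, Category.assoc, sq.w] using this
    intro g
    have key : toUnit T ≫ g ≫ c' = toUnit T ≫ g ≫ c' := rfl
    have e : (toUnit T ≫ g ≫ c') * j = j * (toUnit T ≫ g ≫ c') :=
      eq_of_torsion hT _ _ hℓp.one_lt hℓk fun τ i hτ => by
        simp only [MonObj.comp_mul, comp_toUnit_assoc]
        rw [show toUnit pk = 𝟙 pk from toUnit_unique _ _, Category.id_comp]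
        refine A.comm_of_torsion c' (τ ≫ j) (fun p => hq p τ) (n := ℓ ^ i) (by push_cast; exact pow_ne_zero _ hℓk) ?_
          1 (by rw [MonObj.one_comp, _root_.one_mul, _root_.mul_one]) g
        rw [← MonObj.pow_comp, hτ, MonObj.one_comp, MonObj.one_comp]
    intro τ
    have := τ ≫= e
    simp only [MonObj.comp_mul, comp_toUnit_assoc] at this
    rwa [show toUnit pk = 𝟙 pk from toUnit_unique _ _, Category.id_comp] at this
  haveI : IsReduced (C' ⊗ T).left := by
    haveI : Smooth (C' ⊗ T).hom := by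
      show Smooth (Limits.pullback.fst C'.hom T.hom ≫ C'.hom); infer_instance
    exact isReduced_of_smooth (C' ⊗ T).hom
  haveI : LocallyOfFiniteType (C' ⊗ T).hom := by
    show LocallyOfFiniteType (Limits.pullback.fst C'.hom T.hom ≫ C'.hom); infer_instance
  have huniv : (fst C' T ≫ c') * (snd C' T ≫ j) = (snd C' T ≫ j) * (fst C' T ≫ c') :=
    BorelFixed.hom_ext_pts _ _ fun r => by
      simp only [MonObj.comp_mul, ← Category.assoc]
      exact main _ _
  obtain ⟨hcm, hcmono, hCiff⟩ := hC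
  haveI := hcm
  haveI := hcmono
  haveI : Mono c' := Over.mono_of_mono_left c'
  obtain ⟨f, hf⟩ := (hCiff C' c').2 fun X x h => by
    have := lift x h ≫= huniv
    simpa [MonObj.comp_mul] using this
  -- the other inclusion
  obtain ⟨r, hr⟩ := (hCQiff C (c ≫ A.q)).2 fun X x h => by
    haveI := (hw.whiskerLeft C).epi
    have huC : (fst C T' ≫ c ≫ A.q) * (snd C T' ≫ t') = (snd C T' ≫ t') * (fst C T' ≫ c ≫ A.q) := by
      rw [← cancel_epi (C ◁ w)]
      simp only [MonObj.comp_mul, whiskerLeft_fst_assoc, whiskerLeft_snd_assoc, Category.assoc, hwt]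
      have := (hCiff C c).1 ⟨𝟙 C, Category.id_comp c⟩ _ (fst C T) (snd C T)
      simp only [← Category.assoc]
      rw [← MonObj.mul_comp, ← MonObj.mul_comp, this]
    have := lift x h ≫= huC
    simpa [MonObj.comp_mul] using this
  obtain ⟨g, hg1, -⟩ := sq.exists_lift c r hr.symm
  let e : C' ≅ C := ⟨f, g, by rw [← cancel_mono c', Category.assoc, hg1, hf, Category.id_comp],
    by rw [← cancel_mono c, Category.assoc, hf, hg1, Category.id_comp]⟩
  haveI : IsIso g.left := ((Over.forget _).mapIso e).isIso_inv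
  haveI : IsIso f.left := ((Over.forget _).mapIso e).isIso_hom
  have hπ' : IsCov (g ≫ π) := (IsCov.of_left g).comp hπ
  haveI : IsMonHom g := AlgGrp33.AffineProper.isMonHom_of_mono g c' c hg1
  refine ⟨g ≫ π, inferInstance, hπ', ?_, ?_, ?_, ?_, ?_⟩
  · exact sq.of_iso e (Iso.refl _) (Iso.refl _) (Iso.refl _) (by simp [e, hf]) (by simp [e, ← Category.assoc, e.hom_inv_id]) (by simp) (by simp)
  · rw [← Over.w g]; infer_instance
  · rw [← Over.w g]; infer_instance
  · rw [← hg1, Over.comp_left]; infer_instance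
  · exact f.left.homeomorph.surjective.connectedSpace f.left.continuous

include A in
/-- the centraliser of a subtorus is smooth, closed and connected -/
theorem Affn.centralizer_props [ConnectedSpace G.left] {T : Over (Spec (CommRingCat.of k))} [GrpObj T] (j : T ⟶ G) [IsMonHom j]
    (hT : Red.IsTorus T) {C : Over (Spec (CommRingCat.of k))} [GrpObj C] (c : C ⟶ G)
    (hC : Red.IsCentralizerOf j c) :
    Smooth C.hom ∧ QuasiCompact C.hom ∧ IsClosedImmersion c.left ∧ ConnectedSpace C.left := by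
  obtain ⟨_, _, _, _, _⟩ := AlgGrp33.IsogSub.torus_props hT
  obtain ⟨T', _, t', w, ht'm, ht'cl, hwm, hwt, hw, hT's, hT'q, -, -⟩ := exists_smooth_image (j ≫ A.q)
  haveI := ht'm
  haveI := ht'cl
  haveI := hwm
  haveI := hT's
  haveI := hw.surj
  haveI : IsAffine T'.left := isAffine_of_isAffineHom t'.left
  haveI : IsReduced T'.left := isReduced_of_smooth T'.hom
  have hT' : Red.IsTorus T' := TorusImage.isTorus_image hT w
  obtain ⟨CQ, _, cQ, hCQ, -, -⟩ := (Groth.Agent.S3006.result _ A.Q T' t' ht'cl hT').1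
  obtain ⟨π, -, -, -, h⟩ := A.centralizer_isPullback j hT c hC t' w hw hwt hT' cQ hCQ
  exact h

end Groth.Agent.SGA3a.NonAff
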