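import Groth.Agent.SGA3a.NonAff.CartanNorm

/-!
Normalisers of Cartan subgroups in connected smooth groups, not necessarily affine.
-/

set_option autoImplicit false
set_option linter.unusedSectionVars false
set_option linter.style.haveILetI false
set_option backward.isDefEq.respectTransparency.types false

universe u

open CategoryTheory MonoidalCategory CartesianMonoidalCategory MonObj GrpObj AlgebraicGeometry

noncomputable section

namespace Groth.Agent.SGA3a.NonAff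

open AlgGrp79

variable {k : Type u} [Field k] [IsAlgClosed k]

local notation "pk" => 𝟙_ (Over (Spec (CommRingCat.of k)))

/-- a factorisation through a monomorphism descends along coverings -/
theorem exists_descend_factor {X Y Z W : Over (Spec (CommRingCat.of k))} {p : X ⟶ Y} (hp : IsCov p) (i : Z ⟶ W)
    [Mono i] (E : Y ⟶ W) (r : X ⟶ Z) (h : r ≫ i = p ≫ E) : ∃ d : Y ⟶ Z, d ≫ i = E := by
  obtain ⟨d, hd⟩ := hp.desc r fun T a b hab => by
    rw [← cancel_mono i, Category.assoc, Category.assoc, h, reassoc_of% hab]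
  haveI := hp.epi
  exact ⟨d, by rw [← cancel_epi p, reassoc_of% hd, h]⟩

/-- normalising the preimage of a subgroup is normalising the subgroup -/
theorem normPred_pullback_iff {G Q C CQ X : Over (Spec (CommRingCat.of k))} [GrpObj G] [GrpObj Q] {q : G ⟶ Q}
    [IsMonHom q] {c : C ⟶ G} {π : C ⟶ CQ} {cQ : CQ ⟶ Q} [Mono cQ] (hπ : IsCov π) (sq : IsPullback c π q cQ)
    (g : X ⟶ G) : NormPred c g ↔ NormPred cQ (g ≫ q) := by
  constructor
  · intro hg
    have e1 : ∀ {W : Over (Spec (CommRingCat.of k))} (x : W ⟶ X) (h : W ⟶ C),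
        ((x ≫ g) * (h ≫ c) * (x ≫ g)⁻¹) ≫ q = (x ≫ g ≫ q) * (h ≫ π ≫ cQ) * (x ≫ g ≫ q)⁻¹ := fun x h => by
      simp only [MonObj.mul_comp, GrpObj.inv_comp, Category.assoc, sq.w]
    have e2 : ∀ {W : Over (Spec (CommRingCat.of k))} (x : W ⟶ X) (h : W ⟶ C),
        ((x ≫ g)⁻¹ * (h ≫ c) * (x ≫ g)) ≫ q = (x ≫ g ≫ q)⁻¹ * (h ≫ π ≫ cQ) * (x ≫ g ≫ q) := fun x h => by
      simp only [MonObj.mul_comp, GrpObj.inv_comp, Category.assoc, sq.w]
    obtain ⟨⟨a, ha⟩, b, hb⟩ := hg (X ⊗ C) (fst X C) (snd X C)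
    obtain ⟨d₁, hd₁⟩ := exists_descend_factor (hπ.whiskerLeft X) cQ
      ((fst X CQ ≫ g ≫ q) * (snd X CQ ≫ cQ) * (fst X CQ ≫ g ≫ q)⁻¹) (a ≫ π) (by
        rw [Category.assoc, ← sq.w, ← Category.assoc, ← ha, e1]
        simp only [MonObj.comp_mul, GrpObj.comp_inv, whiskerLeft_fst_assoc, whiskerLeft_snd_assoc])
    obtain ⟨d₂, hd₂⟩ := exists_descend_factor (hπ.whiskerLeft X) cQ
      ((fst X CQ ≫ g ≫ q)⁻¹ * (snd X CQ ≫ cQ) * (fst X CQ ≫ g ≫ q)) (b ≫ π) (by
        rw [Category.assoc, ← sq.w, ← Category.assoc, ← hb, e2]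
        simp only [MonObj.comp_mul, GrpObj.comp_inv, whiskerLeft_fst_assoc, whiskerLeft_snd_assoc])
    intro X' x h
    refine ⟨⟨lift x h ≫ d₁, ?_⟩, lift x h ≫ d₂, ?_⟩
    · rw [Category.assoc, hd₁]; simp [MonObj.comp_mul, GrpObj.comp_inv]
    · rw [Category.assoc, hd₂]; simp [MonObj.comp_mul, GrpObj.comp_inv]
  · intro hg X' x h
    obtain ⟨⟨a, ha⟩, b, hb⟩ := hg X' x (h ≫ π)
    obtain ⟨a', ha', -⟩ := sq.exists_lift ((x ≫ g) * (h ≫ c) * (x ≫ g)⁻¹) a (by
      rw [← ha]; simp only [MonObj.mul_comp, GrpObj.inv_comp, Category.assoc, sq.w])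
    obtain ⟨b', hb', -⟩ := sq.exists_lift ((x ≫ g)⁻¹ * (h ≫ c) * (x ≫ g)) b (by
      rw [← hb]; simp only [MonObj.mul_comp, GrpObj.inv_comp, Category.assoc, sq.w])
    exact ⟨⟨a', ha'.symm⟩, b', hb'.symm⟩

variable {G T C : Over (Spec (CommRingCat.of k))} [GrpObj G] [GrpObj T] [GrpObj C] [Smooth G.hom]
  [QuasiCompact G.hom] [ConnectedSpace G.left] {i : T ⟶ G} {c : C ⟶ G}

/-- the image of a Cartan subgroup in the affinization, with the normaliser of the torus there -/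
theorem Affn.exists_cartan_image (A : Affn G) (hT : AGF.IsMaxTorus i) (hc : Red.IsCentralizerOf i c) :
    ∃ (V : Over (Spec (CommRingCat.of k))) (_ : GrpObj V) (v : V ⟶ A.Q) (CQ : Over (Spec (CommRingCat.of k)))
      (_ : GrpObj CQ) (cQ : CQ ⟶ A.Q) (π : C ⟶ CQ), AGF.IsMaxTorus v ∧ IsClosedImmersion v.left ∧
      Red.IsCentralizerOf v cQ ∧ IsCov π ∧ IsPullback c π A.q cQ := by
  obtain ⟨him, -, hTt, -⟩ := id hT
  haveI := him
  obtain ⟨V, _, v, w, hwm, hw, hwv, hvcl, hVmax⟩ := A.image_maxTorus hT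
  obtain ⟨hvm, -, hVt, -⟩ := id hVmax
  haveI := hvm
  haveI := hvcl
  haveI := hwm
  obtain ⟨CQ, _, cQ, hCQ, -, -⟩ := (Groth.Agent.S3006.result _ A.Q V v hvcl hVt).1
  obtain ⟨π, -, hπ, sq, -⟩ := A.centralizer_isPullback i hTt c hc v w hw hwv hVt cQ hCQ
  exact ⟨V, inferInstance, v, CQ, inferInstance, cQ, π, hVmax, hvcl, hCQ, hπ, sq⟩

/-- normalising a Cartan subgroup is normalising its maximal torus -/
theorem normPred_cartan_iff (hT : AGF.IsMaxTorus i) (hc : Red.IsCentralizerOf i c)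
    {X : Over (Spec (CommRingCat.of k))} (g : X ⟶ G) : NormPred c g ↔ NormPred i g := by
  refine ⟨fun hg => ?_, fun hg => hg.centralizer hc⟩
  obtain ⟨him, himono, hTt, -⟩ := id hT
  haveI := him
  haveI := himono
  obtain ⟨A⟩ := nonempty_affn G
  obtain ⟨hCs, hCq, -, hCc⟩ := A.centralizer_props i hTt c hc
  haveI := hCs
  haveI := hCq
  haveI := hCc
  obtain ⟨V, _, v, CQ, _, cQ, π, hVmax, hvcl, hCQ, hπ, sq⟩ := A.exists_cartan_image hT hc
  obtain ⟨hvm, -, hVt, -⟩ := id hVmax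
  obtain ⟨hcQm, hcQmono, -⟩ := id hCQ
  haveI := hvm
  haveI := hvcl
  haveI := hcQmono
  obtain ⟨NQ, _, nQ, hNQ, hnQcl, hNQs⟩ := (Groth.Agent.S3006.result _ A.Q V v hvcl hVt).2
  obtain ⟨hnQm, -, hNQiff⟩ := hNQ
  haveI := hnQm
  haveI := hnQcl
  haveI := hNQs
  haveI : QuasiCompact NQ.hom := by rw [← Over.w nQ]; infer_instance
  obtain ⟨P, _, p, ρ, hpm, hpcl, hρm, hρ, hPft, hPqc, sqP⟩ := exists_preimage A.q A.cov nQ
  haveI := hpm
  haveI := hpcl
  haveI := hρm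
  haveI := hPft
  haveI := hPqc
  obtain ⟨hPs, -, -, -⟩ := A.preimage_props p ρ hρ nQ sqP
  haveI := hPs
  haveI : IsReduced P.left := isReduced_of_smooth P.hom
  haveI := isSeparated_grp G
  obtain ⟨NT, _, nT, hNT, hnTcl, -⟩ :=
    (Groth.Agent.S3006.result _ G T i (AGF80.BorelCor.isClosedImmersion_torus G hTt i) hTt).2
  haveI := hnTcl
  obtain ⟨r, hr⟩ := AGF80.BorelCor.exists_factor_of_pts p nT fun z =>
    (hNT.2.2 _ (z ≫ p)).2 (NormPred.torus_of_pt hT hc ((normPred_pullback_iff hπ sq (z ≫ p)).2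
      (NormPred.centralizer hCQ ((hNQiff _ ((z ≫ p) ≫ A.q)).1
        ⟨z ≫ ρ, by rw [Category.assoc, ← sqP.w, Category.assoc]⟩))))
  obtain ⟨n, hn⟩ := (hNQiff X (g ≫ A.q)).2
    (NormPred.torus_of_affine A.Q hVmax hCQ ((normPred_pullback_iff hπ sq g).1 hg))
  obtain ⟨z, hz, -⟩ := sqP.exists_lift g n hn.symm
  exact (hNT.2.2 X g).1 ⟨z ≫ r, by rw [Category.assoc, hr, hz]⟩

/-- in a solvable connected group a Cartan subgroup is its own normaliser -/
theorem exists_factor_of_normPred_solvable (hs : Red.IsSolvableGrp G) (hT : AGF.IsMaxTorus i)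
    (hc : Red.IsCentralizerOf i c) {X : Over (Spec (CommRingCat.of k))} (g : X ⟶ G) (hg : NormPred c g) :
    ∃ z : X ⟶ C, z ≫ c = g := by
  obtain ⟨A⟩ := nonempty_affn G
  obtain ⟨V, _, v, CQ, _, cQ, π, hVmax, hvcl, hCQ, hπ, sq⟩ := A.exists_cartan_image hT hc
  obtain ⟨hvm, -, hVt, -⟩ := id hVmax
  obtain ⟨hcQm, hcQmono, hCQiff⟩ := id hCQ
  haveI := hvm
  haveI := hvcl
  haveI := hcQmono
  obtain ⟨_, _, _, _, _⟩ := AlgGrp33.IsogSub.torus_props hVt
  haveI : IsReduced V.left := isReduced_of_smooth V.hom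
  haveI := isSeparated_grp A.Q
  haveI : Mono v := Over.mono_of_mono_left v
  obtain ⟨-, hcQcl, -⟩ := CentTorus.centralizer_props A.Q v hVt cQ hCQ
  haveI := hcQcl
  haveI := A.cov.surj
  haveI := A.cov.flat
  have hQs : Red.IsSolvableGrp A.Q := Groth.Agent.S7997.result k G A.Q A.q hs
  have hQB : Red.IsBorelOver k (𝟙 A.Q) := by
    refine ⟨inferInstance, inferInstanceAs (IsClosedImmersion (𝟙 A.Q.left)), inferInstance, inferInstance, hQs, ?_⟩
    intro B' _ i' _ f hi' _ _ _ hf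
    haveI := hi'
    haveI : Mono i' := Over.mono_of_mono_left i'
    haveI : IsSplitEpi i' := ⟨⟨⟨f, hf⟩⟩⟩
    haveI : IsIso i' := isIso_of_mono_of_isSplitEpi i'
    haveI : IsIso (f ≫ i') := by rw [hf]; infer_instance
    exact IsIso.of_isIso_comp_right f i'
  obtain ⟨NQ, _, nQ, hNQ, hnQcl, hNQs⟩ := (Groth.Agent.S3006.result _ A.Q V v hvcl hVt).2
  obtain ⟨hnQm, -, hNQiff⟩ := hNQ
  haveI := hnQcl
  haveI := hNQs
  haveI : IsReduced NQ.left := isReduced_of_smooth NQ.hom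
  obtain ⟨r, hr⟩ := AGF80.BorelCor.exists_factor_of_pts nQ cQ fun z => by
    have hn := (hNQiff _ (z ≫ nQ)).1 ⟨z, rfl⟩
    generalize z ≫ nQ = n at hn ⊢
    obtain ⟨⟨a, ha⟩, b, hb⟩ := hn V (toUnit V) (𝟙 V)
    rw [Category.id_comp] at ha hb
    have ha' : a ≫ v = AGF.conjBy n v := ha.symm
    have hb' : b ≫ v = AGF.conjBy n⁻¹ v := by
      rw [← hb]; simp only [AGF.conjBy, GrpObj.comp_inv, _root_.inv_inv]
    let τ : V ≅ V := ⟨a, b,
      by rw [← cancel_mono v, Category.assoc, hb', BorelConj.comp_conjBy, ha', BorelConj.conjBy_conjBy,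
        inv_mul_cancel, BorelConj.conjBy_one, Category.id_comp],
      by rw [← cancel_mono v, Category.assoc, ha', BorelConj.comp_conjBy, hb', BorelConj.conjBy_conjBy,
        mul_inv_cancel, BorelConj.conjBy_one, Category.id_comp]⟩
    let σ : A.Q ≅ A.Q := ⟨AGF.conjBy n (𝟙 A.Q), AGF.conjBy n⁻¹ (𝟙 A.Q),
      by rw [BorelConj.comp_conjBy, Category.comp_id, BorelConj.conjBy_conjBy, inv_mul_cancel, BorelConj.conjBy_one],
      by rw [BorelConj.comp_conjBy, Category.comp_id, BorelConj.conjBy_conjBy, mul_inv_cancel, BorelConj.conjBy_one]⟩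
    have key := Groth.Agent.S3911.result k A.Q V A.Q v (𝟙 A.Q) hVmax hQB v (Category.comp_id v) n τ ha' σ
      (Category.comp_id _)
    refine (hCQiff _ n).2 fun X' x h => ?_
    have e := h ≫= key
    rw [BorelConj.comp_conjBy] at e
    simp only [AGF.conjBy] at e
    rw [toUnit_unique x (toUnit X')]
    exact mul_inv_eq_iff_eq_mul.1 e
  obtain ⟨n, hn⟩ := (hNQiff X (g ≫ A.q)).2
    (NormPred.torus_of_affine A.Q hVmax hCQ ((normPred_pullback_iff hπ sq g).1 hg))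
  obtain ⟨z, hz, -⟩ := sq.exists_lift g (n ≫ r) (by rw [Category.assoc, hr, hn])
  exact ⟨z, hz⟩

end Groth.Agent.SGA3a.NonAff
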