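import Groth.Agent.SGA3a.NonAff.Lift

/-!
Maximal tori exist in connected smooth groups.
-/

set_option autoImplicit false
set_option linter.unusedSectionVars false
set_option linter.style.haveILetI false
set_option backward.isDefEq.respectTransparency.types false

universe u

open CategoryTheory MonoidalCategory CartesianMonoidalCategory MonObj GrpObj AlgebraicGeometry

noncomputable section

namespace Groth.Agent.SGA3a.NonAff

open AlgGrp79

variable {k : Type u} [Field k] [IsAlgClosed k]

/-- maximal tori exist -/
theorem exists_maxTorus (G : Over (Spec (CommRingCat.of k))) [GrpObj G] [Smooth G.hom] [QuasiCompact G.hom]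
    [ConnectedSpace G.left] :
    ∃ (T : Over (Spec (CommRingCat.of k))) (_ : GrpObj T) (i : T ⟶ G), AGF.IsMaxTorus i := by
  haveI := isSeparated_grp G
  haveI := irreducibleSpace_grp G
  let D := WC97.tdegN G.hom (genericPoint G.left)
  suffices main : ∀ (n : ℕ) (T : Over (Spec (CommRingCat.of k))) [GrpObj T] (j : T ⟶ G) [IsMonHom j]
      [IsClosedImmersion j.left] (x : T.left), Red.IsTorus T → closure ({x} : Set T.left) = Set.univ →
      D - WC97.tdegN G.hom (j.left x) ≤ n →
      ∃ (T : Over (Spec (CommRingCat.of k))) (_ : GrpObj T) (i : T ⟶ G), AGF.IsMaxTorus i by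
    obtain ⟨A⟩ := nonempty_affn G
    obtain ⟨T₀, _, j₀, hj₀, hj₀cl, hT₀, -⟩ := exists_universal_torus A.Q
    haveI := hj₀
    haveI := hj₀cl
    obtain ⟨_, _, _, _, _⟩ := AlgGrp33.IsogSub.torus_props hT₀
    obtain ⟨P, _, c, π, hc, hccl, hπm, hπ, hPft, hPqc, sq⟩ := exists_preimage A.q A.cov j₀
    haveI := hc
    haveI := hccl
    haveI := hπm
    haveI := hPft
    haveI := hPqc
    obtain ⟨hPs, -, hPc, -⟩ := A.preimage_props c π hπ j₀ sq
    haveI := hPs
    haveI := hPc inferInstance
    haveI : Mono c := Over.mono_of_mono_left c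
    have hcomm := A.comm_of_torus_image c hT₀ π hπ j₀ sq.w.symm
    haveI : IsCommMonObj P := AlgGrp33.IsogSub.isCommMonObj_of_pts fun {X} a b => by
      rw [← cancel_mono c, MonObj.mul_comp, MonObj.mul_comp]
      exact hcomm X a b
    obtain ⟨S, _, s, hs, hSt, -⟩ := exists_torus_lift hT₀ π hπ
    haveI := hs
    obtain ⟨V, _, v, w, hv, hvcl, -, -, -, hVt⟩ := exists_torus_image hSt (s ≫ c)
    haveI := hv
    haveI := hvcl
    obtain ⟨_, _, _, _, _⟩ := AlgGrp33.IsogSub.torus_props hVt
    haveI := irreducibleSpace_grp V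
    exact main D V v (genericPoint V.left) hVt (genericPoint_spec V.left) (Nat.sub_le _ _)
  intro n
  induction n using Nat.strong_induction_on with
  | _ n ih =>
  intro T _ j _ _ x hT hx hn
  by_contra hno
  have hnot : ¬ AGF.IsMaxTorus j := fun h => hno ⟨T, inferInstance, j, h⟩
  simp only [AGF.IsMaxTorus, not_and, not_forall] at hnot
  obtain ⟨T', _, j', hj', hj'mono, f, hT', hf, hniso⟩ := hnot inferInstance (Over.mono_of_mono_left j) hT
  haveI := hj'
  haveI := hj'mono
  haveI := AGF80.BorelCor.isClosedImmersion_torus G hT' j'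
  obtain ⟨_, _, _, _, _⟩ := AlgGrp33.IsogSub.torus_props hT'
  haveI := irreducibleSpace_grp T'
  haveI : IsClosedImmersion f.left := by
    haveI : IsClosedImmersion (f.left ≫ j'.left) := by rw [← Over.comp_left, hf]; infer_instance
    exact IsClosedImmersion.of_comp f.left j'.left
  have hjf : j.left x = j'.left (f.left x) := by rw [← hf, Over.comp_left, Scheme.Hom.comp_apply]
  have hspec : j'.left (genericPoint T'.left) ⤳ j.left x := by
    rw [hjf]
    exact (genericPoint_specializes _).map j'.left.continuous
  have hne : j'.left (genericPoint T'.left) ≠ j.left x := fun heq => by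
    rw [hjf] at heq
    haveI : Surjective f.left := ⟨fun z => by
      have h1 : closure ({f.left x} : Set T'.left) = Set.univ := by
        rw [← j'.left.isClosedEmbedding.injective heq]; exact genericPoint_spec T'.left
      exact (f.left.isClosedEmbedding.isClosed_range.closure_subset_iff.2 (Set.singleton_subset_iff.2 ⟨x, rfl⟩))
        (h1 ▸ Set.mem_univ z)⟩
    haveI : IsReduced T'.left := isReduced_of_smooth T'.hom
    exact hniso (BorelConj.isIso_of_surj f)
  have hlt := Var76.FibreBound.tdegN_lt G.hom hspec hne
  have hle : WC97.tdegN G.hom (j'.left (genericPoint T'.left)) ≤ D :=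
    Var76.FibreBound.tdegN_le G.hom (genericPoint_specializes _)
  exact hno (ih (D - WC97.tdegN G.hom (j'.left (genericPoint T'.left))) (by omega) T' j' (genericPoint T'.left) hT'
    (genericPoint_spec T'.left) le_rfl)

end Groth.Agent.SGA3a.NonAff
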