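import Groth.Agent.SGA3a.NonAff.Borel
import Groth.Agent.AGF80.Nilp

/-!
Nilpotent connected smooth groups and their tori, not necessarily affine.
-/

set_option autoImplicit false
set_option linter.unusedSectionVars false
set_option linter.style.haveILetI false
set_option backward.isDefEq.respectTransparency.types false

universe u

open CategoryTheory MonoidalCategory CartesianMonoidalCategory MonObj GrpObj AlgebraicGeometry

noncomputable section

namespace Groth.Agent.SGA3a.NonAff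

open AlgGrp79

variable {k : Type u} [Field k] [IsAlgClosed k]

local notation "pk" => 𝟙_ (Over (Spec (CommRingCat.of k)))

variable {G : Over (Spec (CommRingCat.of k))} [GrpObj G] [Smooth G.hom] [QuasiCompact G.hom] [ConnectedSpace G.left]

/-- tori are central when the group of rational points is nilpotent -/
theorem torus_central_of_nilpotent [Group.IsNilpotent (pk ⟶ G)] {T : Over (Spec (CommRingCat.of k))} [GrpObj T]
    (hT : Red.IsTorus T) (j : T ⟶ G) [IsMonHom j] [Mono j] (X : Over (Spec (CommRingCat.of k))) (t : X ⟶ T)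
    (g : X ⟶ G) : (t ≫ j) * g = g * (t ≫ j) := by
  obtain ⟨A⟩ := nonempty_affn G
  haveI := A.cov.surj
  haveI : Group.IsNilpotent (pk ⟶ A.Q) := Group.nilpotent_of_surjective (IsMonHom.monoidHom A.q pk) fun x =>
    BorelImage.exists_pt_lift A.q x
  haveI : IsReduced A.Q.left := isReduced_of_smooth A.Q.hom
  have hQ : AGF.IsNilpotentGrp A.Q := by
    obtain ⟨n, hn⟩ := Subgroup.nilpotent_iff_lowerCentralSeries.1 (inferInstance : Group.IsNilpotent (pk ⟶ A.Q))
    haveI := AlgGrp33.IsogSub.geometricallyIntegral_of_smooth A.Q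
    exact AlgGrp33.SpecPts.nilpotent_of_rat n hn
  obtain ⟨V, _, v, w, hv, hvcl, hwm, hw, hwv, hVt⟩ := exists_torus_image hT (j ≫ A.q)
  haveI := hv
  haveI := hvcl
  haveI := hwm
  haveI : Mono v := Over.mono_of_mono_left v
  obtain ⟨CQ, _, cQ, hCQ, -, -⟩ := (Groth.Agent.S3006.result _ A.Q V v hvcl hVt).1
  haveI := isSeparated_grp G
  obtain ⟨C, _, c, hC, -, -⟩ :=
    (Groth.Agent.S3006.result _ G T j (AGF80.BorelCor.isClosedImmersion_torus G hT j) hT).1
  obtain ⟨π, -, -, sq, -⟩ := A.centralizer_isPullback j hT c hC v w hw hwv hVt cQ hCQ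
  obtain ⟨e, he⟩ := (hCQ.2.2 A.Q (𝟙 A.Q)).2 fun X' x h => AGF80.Nilp.torus_central A.Q hQ hVt v X' _ h
  obtain ⟨z, hz, -⟩ := sq.exists_lift g (g ≫ A.q ≫ e) (by rw [Category.assoc, Category.assoc, he, Category.comp_id])
  have := (hC.2.2 X g).1 ⟨z, hz⟩ X (𝟙 X) t
  rw [Category.id_comp] at this
  exact this.symm

/-- maximal tori are unique when tori are central -/
theorem maxTorus_unique_of_central
    (hc : ∀ (T : Over (Spec (CommRingCat.of k))) [GrpObj T] (j : T ⟶ G) [IsMonHom j] [Mono j], Red.IsTorus T →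
      ∀ (X : Over (Spec (CommRingCat.of k))) (t : X ⟶ T) (g : X ⟶ G), (t ≫ j) * g = g * (t ≫ j))
    {T₁ T₂ : Over (Spec (CommRingCat.of k))} [GrpObj T₁] [GrpObj T₂] {i₁ : T₁ ⟶ G} {i₂ : T₂ ⟶ G}
    (h₁ : AGF.IsMaxTorus i₁) (h₂ : AGF.IsMaxTorus i₂) : ∃ φ : T₁ ≅ T₂, φ.hom ≫ i₂ = i₁ := by
  obtain ⟨g, φ, hφ⟩ := maxTorus_conj h₁ h₂
  obtain ⟨him, himono, hTt, -⟩ := h₁
  haveI := him
  haveI := himono
  refine ⟨φ, ?_⟩
  have := hc T₁ i₁ hTt T₁ (𝟙 T₁) (toUnit T₁ ≫ g)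
  rw [Category.id_comp] at this
  rw [← hφ]
  simp only [AGF.conjBy]
  rw [← this, mul_inv_cancel_right]

/-- the rational points are nilpotent when there is only one maximal torus -/
theorem nilpotent_of_unique
    (huniq : ∀ (T₁ T₂ : Over (Spec (CommRingCat.of k))) [GrpObj T₁] [GrpObj T₂] (i₁ : T₁ ⟶ G) (i₂ : T₂ ⟶ G),
      AGF.IsMaxTorus i₁ → AGF.IsMaxTorus i₂ → ∃ φ : T₁ ≅ T₂, φ.hom ≫ i₂ = i₁)
    {T : Over (Spec (CommRingCat.of k))} [GrpObj T] {i : T ⟶ G} (hi : AGF.IsMaxTorus i) :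
    Group.IsNilpotent (pk ⟶ G) := by
  obtain ⟨A⟩ := nonempty_affn G
  haveI := A.cov.surj
  obtain ⟨him, himono, hTt, -⟩ := id hi
  haveI := him
  obtain ⟨_, _, _, _, _⟩ := AlgGrp33.IsogSub.torus_props hTt
  haveI := AGF80.BorelCor.isClosedImmersion_torus G hTt i
  haveI := isSeparated_grp G
  haveI : IsReduced G.left := isReduced_of_smooth G.hom
  obtain ⟨ℓ, hℓp, hℓk⟩ := exists_prime_ne_zero (k := k)
  -- the torus is central on rational points
  have hfac : ∀ (g : pk ⟶ G), ∃ f : T ⟶ T, f ≫ i = AGF.conjBy g i := fun g => by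
    obtain ⟨φ, hφ⟩ := huniq T T (AGF.conjBy g i) i (AGF80.BorelCor.isMaxTorus_conjBy hi g) hi
    exact ⟨φ.hom, hφ⟩
  have hcen : ∀ (g : pk ⟶ G), AGF.conjBy g i = i := by
    intro g
    haveI := isSeparated_grp G
    refine eq_of_torsion hTt _ _ hℓp.one_lt hℓk fun τ j hτ => ?_
    let E : G ⟶ G := 𝟙 G * (toUnit G ≫ τ ≫ i) * (𝟙 G)⁻¹
    have hE : ∀ r : pk ⟶ G, r ≫ E = r * (τ ≫ i) * r⁻¹ := fun r => by
      simp only [E, MonObj.comp_mul, GrpObj.comp_inv, Category.comp_id, comp_toUnit_assoc]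
      rw [show toUnit pk = 𝟙 pk from toUnit_unique _ _, Category.id_comp]
    obtain ⟨e, he⟩ := AGF80.BorelCor.exists_factor_of_pts E i fun r => by
      obtain ⟨f, hf⟩ := hfac r
      exact ⟨τ ≫ f, by rw [Category.assoc, hf, AGF80.UnipRad.pt_conjBy, hE]⟩
    have hval : ∀ r : pk ⟶ G, r ≫ e ∈ {p : pk ⟶ T | p ^ (ℓ ^ j) = 1} := fun r => by
      show (r ≫ e) ^ (ℓ ^ j) = 1
      rw [← cancel_mono i, MonObj.pow_comp, Category.assoc, he, hE, conj_pow, ← MonObj.pow_comp, hτ,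
        MonObj.one_comp, _root_.mul_one, mul_inv_cancel]
    have h1 := congrArg (· ≫ i) (const_of_finite e (finite_torsion (M := T) (n := ℓ ^ j)
      (by push_cast; exact pow_ne_zero _ hℓk)) hval g 1)
    simp only [Category.assoc, he, hE] at h1
    rw [AGF80.UnipRad.pt_conjBy, h1, _root_.one_mul, inv_one, _root_.mul_one]
  -- its image is central and maximal in the affinization
  obtain ⟨V, _, v, w, hwm, hw, hwv, hvcl, hVmax⟩ := A.image_maxTorus hi
  obtain ⟨hvm, -, -, -⟩ := id hVmax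
  haveI := hw.epi
  have hvcen : ∀ g₀ : pk ⟶ A.Q, AGF.conjBy g₀ v = v := fun g₀ => by
    obtain ⟨g, rfl⟩ := BorelImage.exists_pt_lift A.q g₀
    rw [← cancel_epi w, BorelConj.comp_conjBy, hwv]
    have e : AGF.conjBy (g ≫ A.q) (i ≫ A.q) = AGF.conjBy g i ≫ A.q := by
      simp only [AGF.conjBy, MonObj.mul_comp, GrpObj.inv_comp, Category.assoc]
    rw [e, hcen]
  have hQ : AGF.IsNilpotentGrp A.Q := by
    refine AGF80.Nilp.isNilpotentGrp_of_unique A.Q (fun T₁ T₂ _ _ i₁ i₂ h₁ h₂ => ?_) v hVmax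
    haveI : QuasiCompact A.Q.hom := inferInstance
    obtain ⟨g₁, φ₁, e₁⟩ := maxTorus_conj hVmax h₁
    obtain ⟨g₂, φ₂, e₂⟩ := maxTorus_conj hVmax h₂
    rw [hvcen] at e₁ e₂
    exact ⟨φ₁.symm ≪≫ φ₂, by rw [Iso.trans_hom, Category.assoc, ← e₂, e₁, Iso.symm_hom, Iso.inv_hom_id_assoc]⟩
  obtain ⟨n, hn⟩ := hQ
  haveI : Group.IsNilpotent (pk ⟶ A.Q) := ⟨⟨n, hn pk⟩⟩
  refine Subgroup.isNilpotent_of_ker_le_center (IsMonHom.monoidHom A.q pk) (fun x hx => ?_)
  obtain ⟨a, rfl⟩ := exists_ker_of_comp_one A.ker x hx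
  exact Subgroup.mem_center_iff.2 fun g => (A.central pk a g).symm

end Groth.Agent.SGA3a.NonAff
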