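import Groth.Agent.SGA3a.NonAff.Lift
import Groth.Agent.SGA3a.NonAff.Bridge
import Groth.Agent.AGF80.Descend
import Groth.Agent.S3006
import Groth.Agent.S3910

/-!
Borel subgroups of connected smooth groups over an algebraically closed field, not necessarily affine.
-/

set_option autoImplicit false
set_option linter.unusedSectionVars false
set_option linter.style.haveILetI false
set_option backward.isDefEq.respectTransparency.types false

universe u

open CategoryTheory MonoidalCategory CartesianMonoidalCategory MonObj GrpObj AlgebraicGeometry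

noncomputable section

namespace Groth.Agent.SGA3a.NonAff

open AlgGrp79

variable {k : Type u} [Field k] [IsAlgClosed k]

local notation "pk" => 𝟙_ (Over (Spec (CommRingCat.of k)))

variable {G : Over (Spec (CommRingCat.of k))} [GrpObj G] [Smooth G.hom] [QuasiCompact G.hom] [ConnectedSpace G.left]

/-- the preimage of a Borel subgroup of the affinization is a Borel subgroup -/
theorem Affn.borel_preimage (A : Affn G) {BQ P : Over (Spec (CommRingCat.of k))} [GrpObj BQ] [GrpObj P]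
    {bQ : BQ ⟶ A.Q} (hBQ : Red.IsBorelOver k bQ) (c : P ⟶ G) [IsMonHom c] [IsClosedImmersion c.left]
    (π : P ⟶ BQ) [IsMonHom π] (hπ : IsCov π) (sq : IsPullback c π A.q bQ) : Red.IsBorelOver k c := by
  obtain ⟨_, _, _, _, hsolv, hmax⟩ := hBQ
  haveI : QuasiCompact BQ.hom := by rw [← Over.w bQ]; infer_instance
  haveI : LocallyOfFiniteType P.hom := by rw [← Over.w c]; infer_instance
  haveI : QuasiCompact P.hom := by rw [← Over.w c]; infer_instance
  obtain ⟨hPs, -, hPc, hPsol⟩ := A.preimage_props c π hπ bQ sq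
  refine ⟨inferInstance, inferInstance, hPs, hPc inferInstance, hPsol hsolv, ?_⟩
  intro B' _ i' _ f hi' hs' hc' hsolv' hf
  haveI := hi'
  haveI := hs'
  haveI : QuasiCompact B'.hom := by rw [← Over.w i']; infer_instance
  haveI : IsReduced B'.left := isReduced_of_smooth B'.hom
  haveI := hπ.surj
  haveI := hπ.epi
  haveI : Mono i' := Over.mono_of_mono_left i'
  haveI : Mono c := Over.mono_of_mono_left c
  obtain ⟨V, _, v, p, hv, hvcl, hp, hpv, hpcov, hVs, hVq, hVc, hVsol⟩ := exists_smooth_image (i' ≫ A.q)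
  haveI := hv
  haveI := hvcl
  haveI := hVs
  haveI : Mono v := Over.mono_of_mono_left v
  obtain ⟨d, hd⟩ := hπ.desc (f ≫ p) fun X a b hab => by
    rw [← cancel_mono v]
    simp only [Category.assoc, hpv]
    simp only [reassoc_of% hf, sq.w, reassoc_of% hab]
  have hd2 : d ≫ v = bQ := by
    rw [← cancel_epi π, reassoc_of% hd, hpv, reassoc_of% hf, sq.w]
  haveI : IsIso d := hmax V v d hvcl inferInstance (hVc hc') (hVsol hsolv') hd2
  obtain ⟨g, hg, -⟩ := sq.exists_lift i' (p ≫ inv d) (by rw [← hpv, Category.assoc, ← hd2, IsIso.inv_hom_id_assoc])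
  exact ⟨g, by rw [← cancel_mono c, Category.assoc, hg, hf, Category.id_comp],
    by rw [← cancel_mono i', Category.assoc, hf, hg, Category.id_comp]⟩

/-- every Borel subgroup is the preimage of a Borel subgroup of the affinization -/
theorem Affn.exists_borel_image (A : Affn G) {B : Over (Spec (CommRingCat.of k))} [GrpObj B] {b : B ⟶ G}
    (hB : Red.IsBorelOver k b) :
    ∃ (BQ : Over (Spec (CommRingCat.of k))) (_ : GrpObj BQ) (bQ : BQ ⟶ A.Q) (π : B ⟶ BQ),
      Red.IsBorelOver k bQ ∧ IsMonHom π ∧ IsCov π ∧ IsPullback b π A.q bQ := by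
  obtain ⟨_, _, _, _, hsolv, hmax⟩ := hB
  haveI : QuasiCompact B.hom := by rw [← Over.w b]; infer_instance
  obtain ⟨V, _, v, p, hv, hvcl, hpm, hpv, hp, hVs, hVq, hVc, hVsol⟩ := exists_smooth_image (b ≫ A.q)
  haveI := hv
  haveI := hvcl
  haveI := hVs
  haveI := hVq
  haveI := hVc inferInstance
  obtain ⟨P, _, c, π, hcm, hccl, hπm, hπ, hPft, hPqc, sq⟩ := exists_preimage A.q A.cov v
  haveI := hcm
  haveI := hccl
  haveI := hπm
  haveI := hPft
  haveI := hPqc
  obtain ⟨hPs, -, hPc, hPsol⟩ := A.preimage_props c π hπ v sq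
  obtain ⟨f, hf, hf2⟩ := sq.exists_lift b p hpv.symm
  haveI : IsIso f := hmax P c f hccl hPs (hPc inferInstance) (hPsol (hVsol hsolv)) hf
  have sq' : IsPullback b p A.q v :=
    sq.of_iso (asIso f).symm (Iso.refl _) (Iso.refl _) (Iso.refl _) (by simp [← hf]) (by simp [← hf2]) (by simp) (by simp)
  obtain ⟨BQ, _, bQ, g, hBQ, hg⟩ := AGF80.BorelCor.exists_borel_ge A.Q v (hVsol hsolv)
  obtain ⟨_, _, hBQs, _, hBQsol, -⟩ := id hBQ
  haveI := hBQs
  haveI : QuasiCompact BQ.hom := by rw [← Over.w bQ]; infer_instance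
  obtain ⟨P', _, c', π', hcm', hccl', hπm', hπ', hPft', hPqc', sq''⟩ := exists_preimage A.q A.cov bQ
  haveI := hcm'
  haveI := hccl'
  haveI := hπm'
  haveI := hPft'
  haveI := hPqc'
  obtain ⟨hPs', -, hPc', hPsol'⟩ := A.preimage_props c' π' hπ' bQ sq''
  obtain ⟨f', hf', hf'2⟩ := sq''.exists_lift b (p ≫ g) (by rw [Category.assoc, hg, hpv])
  haveI : IsIso f' := hmax P' c' f' hccl' hPs' (hPc' inferInstance) (hPsol' hBQsol) hf'
  haveI : IsClosedImmersion g.left := by
    haveI : IsClosedImmersion (g.left ≫ bQ.left) := by rw [← Over.comp_left, hg]; infer_instance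
    exact IsClosedImmersion.of_comp g.left bQ.left
  haveI : Surjective g.left := by
    haveI : IsIso f'.left := ((Over.forget _).mapIso (asIso f')).isIso_hom
    haveI := hπ'.surj
    haveI : Surjective (f'.left ≫ π'.left) := inferInstance
    haveI : Surjective (p.left ≫ g.left) := by rw [← Over.comp_left, ← hf'2, Over.comp_left]; infer_instance
    exact Surjective.of_comp p.left g.left
  haveI : IsReduced BQ.left := isReduced_of_smooth BQ.hom
  haveI : IsIso g := BorelConj.isIso_of_surj g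
  refine ⟨V, inferInstance, v, p, ?_, hpm, hp, sq'⟩
  refine ⟨inferInstance, inferInstance, inferInstance, inferInstance, hVsol hsolv, ?_⟩
  intro B' _ i' _ e hi' hs' hc' hsolv' he
  haveI := hBQ.2.2.2.2.2 B' i' (inv g ≫ e) hi' hs' hc' hsolv' (by rw [Category.assoc, he, IsIso.inv_comp_eq, hg])
  exact IsIso.of_isIso_comp_left (inv g) e

/-- Borel subgroups are conjugate -/
theorem borel_conj {B₁ B₂ : Over (Spec (CommRingCat.of k))} [GrpObj B₁] [GrpObj B₂] {b₁ : B₁ ⟶ G} {b₂ : B₂ ⟶ G}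
    (h₁ : Red.IsBorelOver k b₁) (h₂ : Red.IsBorelOver k b₂) :
    ∃ (g : pk ⟶ G) (φ : B₁ ≅ B₂), φ.hom ≫ b₂ = AGF.conjBy g b₁ := by
  obtain ⟨A⟩ := nonempty_affn G
  haveI := A.cov.surj
  obtain ⟨Q₁, _, q₁, π₁, hQ₁, hπ₁m, hπ₁, sq₁⟩ := A.exists_borel_image h₁
  obtain ⟨Q₂, _, q₂, π₂, hQ₂, hπ₂m, hπ₂, sq₂⟩ := A.exists_borel_image h₂
  obtain ⟨g₀, f, hf⟩ := BorelConj.borel_conj A.Q Q₁ Q₂ q₁ q₂ hQ₁ hQ₂
  obtain ⟨g, rfl⟩ := BorelImage.exists_pt_lift A.q g₀
  obtain ⟨φ, hφ, -⟩ := sq₂.exists_lift (AGF.conjBy g b₁) (π₁ ≫ f.hom) (by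
    rw [Category.assoc, hf, BorelConj.comp_conjBy, ← sq₁.w]
    simp only [AGF.conjBy, MonObj.mul_comp, GrpObj.inv_comp, Category.assoc])
  obtain ⟨hm₂, hcl₂, hs₂, hc₂, hsol₂, -⟩ := h₂
  haveI := hm₂
  haveI : IsIso φ := (BorelOps.isBorelOver_conjBy h₁ g).2.2.2.2.2 B₂ b₂ φ hcl₂ hs₂ hc₂ hsol₂ hφ
  exact ⟨g, asIso φ, hφ⟩

/-- every rational point lies in a Borel subgroup -/
theorem exists_borel_mem (g : pk ⟶ G) :
    ∃ (B : Over (Spec (CommRingCat.of k))) (_ : GrpObj B) (b : B ⟶ G), Red.IsBorelOver k b ∧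
      ∃ g' : pk ⟶ B, g' ≫ b = g := by
  obtain ⟨A⟩ := nonempty_affn G
  obtain ⟨B₀, _, i₀, hB₀⟩ := AGF80.BorelCor.exists_borel A.Q
  obtain ⟨x, y, hxy⟩ := Groth.Agent.S3910.result k A.Q B₀ i₀ hB₀ (g ≫ A.q)
  have hB₁ := BorelOps.isBorelOver_conjBy hB₀ x
  obtain ⟨_, _, _, _, -⟩ := id hB₁
  obtain ⟨P, _, c, π, hcm, hccl, hπm, hπ, -, -, sq⟩ := exists_preimage A.q A.cov (AGF.conjBy x i₀)
  haveI := hcm
  haveI := hccl
  haveI := hπm
  obtain ⟨z, hz, -⟩ := sq.exists_lift g y (by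
    rw [BorelConj.comp_conjBy, ← hxy]
    simp only [AGF.conjBy]
    rw [show toUnit pk = 𝟙 pk from toUnit_unique _ _, Category.id_comp])
  exact ⟨P, inferInstance, c, A.borel_preimage hB₁ c π hπ sq, z, hz⟩

/-- a smooth connected solvable closed subgroup lies in a Borel subgroup -/
theorem exists_borel_ge {H : Over (Spec (CommRingCat.of k))} [GrpObj H] (h : H ⟶ G) [IsMonHom h]
    [IsClosedImmersion h.left] [Smooth H.hom] [ConnectedSpace H.left] (hs : Red.IsSolvableGrp H) :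
    ∃ (B : Over (Spec (CommRingCat.of k))) (_ : GrpObj B) (b : B ⟶ G) (f : H ⟶ B), Red.IsBorelOver k b ∧ f ≫ b = h := by
  obtain ⟨A⟩ := nonempty_affn G
  haveI : QuasiCompact H.hom := by rw [← Over.w h]; infer_instance
  obtain ⟨V, _, v, p, hv, hvcl, hpm, hpv, hp, hVs, hVq, hVc, hVsol⟩ := exists_smooth_image (h ≫ A.q)
  haveI := hv
  haveI := hvcl
  haveI := hVs
  haveI := hVc inferInstance
  obtain ⟨BQ, _, bQ, g, hBQ, hg⟩ := AGF80.BorelCor.exists_borel_ge A.Q v (hVsol hs)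
  obtain ⟨_, _, _, _, -⟩ := id hBQ
  obtain ⟨P, _, c, π, hcm, hccl, hπm, hπ, -, -, sq⟩ := exists_preimage A.q A.cov bQ
  haveI := hcm
  haveI := hccl
  haveI := hπm
  obtain ⟨f, hf, -⟩ := sq.exists_lift h (p ≫ g) (by rw [Category.assoc, hg, hpv])
  exact ⟨P, inferInstance, c, f, A.borel_preimage hBQ c π hπ sq, hf⟩

/-- maximal tori of a Borel subgroup are maximal tori of the group -/
theorem isMaxTorus_comp_borel {B : Over (Spec (CommRingCat.of k))} [GrpObj B] {b : B ⟶ G}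
    (hB : Red.IsBorelOver k b) {T : Over (Spec (CommRingCat.of k))} [GrpObj T] {t : T ⟶ B}
    (ht : AGF.IsMaxTorus t) : AGF.IsMaxTorus (t ≫ b) := by
  obtain ⟨_, _, _, _, -⟩ := id hB
  obtain ⟨_, _, hTt, -⟩ := id ht
  haveI : QuasiCompact B.hom := by rw [← Over.w b]; infer_instance
  haveI : Mono b := Over.mono_of_mono_left b
  refine ⟨inferInstance, inferInstance, hTt, ?_⟩
  intro T' _ j _ _ f hT' hf
  obtain ⟨_, _, _, _, _⟩ := AlgGrp33.IsogSub.torus_props hT'
  haveI := AGF80.BorelCor.isClosedImmersion_torus G hT' j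
  obtain ⟨B', _, b', φ₀, hB', hφ₀⟩ := exists_borel_ge j (AGF80.BorelCor.isSolvableGrp_torus hT')
  obtain ⟨g, e, he⟩ := borel_conj hB' hB
  -- the bigger torus conjugated into the Borel subgroup
  let φ : T' ⟶ B := φ₀ ≫ e.hom
  have hφ : φ ≫ b = AGF.conjBy g j := by
    show (φ₀ ≫ e.hom) ≫ b = _
    rw [Category.assoc, he, BorelConj.comp_conjBy, hφ₀]
  haveI := BorelConj.isMonHom_conjBy g j
  haveI := BorelConj.isClosedImmersion_conjBy g j
  haveI : IsMonHom φ := AlgGrp33.AffineProper.isMonHom_of_mono φ b _ hφ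
  haveI : IsClosedImmersion φ.left := by
    haveI : IsClosedImmersion (φ.left ≫ b.left) := by rw [← Over.comp_left, hφ]; infer_instance
    exact IsClosedImmersion.of_comp φ.left b.left
  obtain ⟨x, ψ, hψ⟩ := exists_conj_into_maxTorus ht T' hT' φ
  obtain ⟨_, _, _, _, _⟩ := AlgGrp33.IsogSub.torus_props hTt
  haveI := AGF80.BorelCor.isClosedImmersion_torus B hTt t
  haveI := isSeparated_grp B
  haveI := isSeparated_grp G
  haveI : IsClosedImmersion f.left := by
    haveI : IsClosedImmersion (f.left ≫ j.left) := by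
      rw [← Over.comp_left, hf, Over.comp_left]; infer_instance
    exact IsClosedImmersion.of_comp f.left j.left
  haveI := BorelConj.isClosedImmersion_conjBy x t
  haveI : IsClosedImmersion ψ.left := by
    haveI : IsClosedImmersion (ψ.left ≫ (AGF.conjBy x t).left) := by rw [← Over.comp_left, hψ]; infer_instance
    exact IsClosedImmersion.of_comp ψ.left (AGF.conjBy x t).left
  haveI : Mono ψ := Over.mono_of_mono_left ψ
  haveI : IsClosedImmersion (f ≫ ψ).left := inferInstanceAs (IsClosedImmersion (f.left ≫ ψ.left))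
  haveI : IsIso (f ≫ ψ) := BorelTorus.isIso_endo hTt (f ≫ ψ)
  haveI : IsSplitEpi ψ := ⟨⟨⟨inv (f ≫ ψ) ≫ f, by rw [Category.assoc, IsIso.inv_hom_id]⟩⟩⟩
  haveI : IsIso ψ := isIso_of_mono_of_isSplitEpi ψ
  exact IsIso.of_isIso_comp_right f ψ

/-- the centraliser of a maximal torus of a Borel subgroup is the centraliser in the group -/
theorem isCentralizerOf_comp_borel {B : Over (Spec (CommRingCat.of k))} [GrpObj B] {b : B ⟶ G}
    (hB : Red.IsBorelOver k b) {T : Over (Spec (CommRingCat.of k))} [GrpObj T] {t : T ⟶ B}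
    (ht : AGF.IsMaxTorus t) {C : Over (Spec (CommRingCat.of k))} [GrpObj C] {c : C ⟶ B}
    (hc : Red.IsCentralizerOf t c) : Red.IsCentralizerOf (t ≫ b) (c ≫ b) := by
  obtain ⟨A⟩ := nonempty_affn G
  obtain ⟨BQ, _, bQ, π, hBQ, hπm, hπ, sq⟩ := A.exists_borel_image hB
  obtain ⟨_, hbQcl, _, _, -⟩ := id hBQ
  obtain ⟨_, _, _, _, -⟩ := id hB
  haveI : Mono b := Over.mono_of_mono_left b
  obtain ⟨V, _, v, w, hwm, hw, hwv, hvcl, hVmax⟩ := A.image_maxTorus (isMaxTorus_comp_borel hB ht)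
  obtain ⟨_, _, hVt, -⟩ := id hVmax
  obtain ⟨_, _, _, _, _⟩ := AlgGrp33.IsogSub.torus_props hVt
  haveI := hvcl
  haveI : IsReduced V.left := isReduced_of_smooth V.hom
  obtain ⟨CQ, _, cQ, hCQ, -, -⟩ := (Groth.Agent.S3006.result _ A.Q V v hvcl hVt).1
  obtain ⟨v', hv'⟩ := exists_lift_of_range_subset bQ v (by
    haveI := hw.surj
    rintro _ ⟨z, rfl⟩
    obtain ⟨y, rfl⟩ := w.left.surjective z
    rw [← Scheme.Hom.comp_apply, ← Over.comp_left, hwv, Category.assoc, sq.w, Over.comp_left, Over.comp_left,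
      Scheme.Hom.comp_apply, Scheme.Hom.comp_apply]
    exact ⟨_, rfl⟩)
  obtain ⟨r, hr⟩ := AGF80.Descend.centralizer_le_borel hVmax hCQ hBQ v' hv'
  obtain ⟨hcm, hcmono, hcI⟩ := hc
  haveI := hcm
  haveI := hcmono
  refine ⟨inferInstance, inferInstance, fun X g => ⟨?_, fun h => ?_⟩⟩
  · rintro ⟨z, rfl⟩ X' x s
    have := (hcI X (z ≫ c)).1 ⟨z, rfl⟩ X' x s
    simpa only [MonObj.mul_comp, Category.assoc] using congrArg (· ≫ b) this
  · haveI := (hw.whiskerLeft X).epi
    have huniv : (fst X V ≫ g ≫ A.q) * (snd X V ≫ v) = (snd X V ≫ v) * (fst X V ≫ g ≫ A.q) := by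
      rw [← cancel_epi (X ◁ w)]
      simp only [MonObj.comp_mul, whiskerLeft_fst_assoc, whiskerLeft_snd_assoc, hwv]
      simpa only [MonObj.mul_comp, Category.assoc] using congrArg (· ≫ A.q) (h _ (fst X T) (snd X T))
    obtain ⟨z, hz⟩ := (hCQ.2.2 X (g ≫ A.q)).2 fun X' x s => by
      simpa [MonObj.comp_mul] using lift x s ≫= huniv
    obtain ⟨y, hy, -⟩ := sq.exists_lift g (z ≫ r) (by rw [Category.assoc, hr, hz])
    obtain ⟨z', hz'⟩ := (hcI X y).2 fun X' x s => by
      rw [← cancel_mono b, MonObj.mul_comp, MonObj.mul_comp, Category.assoc, Category.assoc, hy]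
      exact h X' x s
    exact ⟨z', by rw [← Category.assoc, hz', hy]⟩

end Groth.Agent.SGA3a.NonAff
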