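import Groth.Agent.SGA3a.AntiAffineSmooth
import Groth.Agent.AlgGrp33.Affinize
import Groth.Agent.AGF80.BorelCor
import Groth.Agent.AlgGrp79.TorusImage
import Groth.Agent.SGA3a.Transporter
import Groth.Agent.S3293
import Groth.Agent.S7996
import Groth.Agent.S7982
import Groth.Agent.S8003
import Groth.Agent.S7997
import Groth.Agent.S7998

/-!
Smooth connected groups over an algebraically closed field as central extensions of affine groups by anti-affine groups.
-/

set_option autoImplicit false
set_option linter.unusedSectionVars false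
set_option linter.style.haveILetI false
set_option backward.isDefEq.respectTransparency.types false

universe u

open CategoryTheory MonoidalCategory CartesianMonoidalCategory MonObj GrpObj AlgebraicGeometry

noncomputable section

namespace Groth.Agent.SGA3a.NonAff

open AlgGrp79

variable {k : Type u} [Field k] [IsAlgClosed k]

local notation "pk" => 𝟙_ (Over (Spec (CommRingCat.of k)))

/-- a point of the source over a point of the target -/
theorem quasiCompact_left {X Y : Over (Spec (CommRingCat.of k))} (f : X ⟶ Y) [QuasiCompact X.hom]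
    [IsSeparated Y.hom] : QuasiCompact f.left := by
  haveI : QuasiCompact (f.left ≫ Y.hom) := by rw [Over.w]; infer_instance
  exact QuasiCompact.of_comp f.left Y.hom

/-- homomorphisms onto smooth groups are faithfully flat -/
theorem isCov_of_surjective {G H : Over (Spec (CommRingCat.of k))} [GrpObj G] [GrpObj H]
    [LocallyOfFiniteType G.hom] [QuasiCompact G.hom] [LocallyOfFiniteType H.hom] [Smooth H.hom]
    (f : G ⟶ H) [IsMonHom f] [Surjective f.left] : IsCov f := by
  haveI : IsReduced H.left := isReduced_of_smooth H.hom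
  haveI := flat_of_surjective_hom f
  exact ⟨inferInstance, inferInstance, AlgGrp79.lfp_left f⟩

/-- the target of a covering with smooth source is smooth -/
theorem smooth_of_isCov {G H : Over (Spec (CommRingCat.of k))} [Smooth G.hom] (f : G ⟶ H) (hf : IsCov f)
    [LocallyOfFiniteType H.hom] : Smooth H.hom := by
  obtain ⟨_, _, _⟩ := hf
  haveI : Smooth (f.left ≫ H.hom) := by rw [Over.w]; infer_instance
  exact Unr55.smooth_of_fppf_comp f.left H.hom

/-- the reduced image of a smooth group -/
theorem exists_smooth_image {H G : Over (Spec (CommRingCat.of k))} [GrpObj H] [GrpObj G] [Smooth H.hom]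
    [QuasiCompact H.hom] [LocallyOfFiniteType G.hom] [QuasiCompact G.hom] (f : H ⟶ G) [IsMonHom f] :
    ∃ (V : Over (Spec (CommRingCat.of k))) (_ : GrpObj V) (i : V ⟶ G) (p : H ⟶ V), IsMonHom i ∧
      IsClosedImmersion i.left ∧ IsMonHom p ∧ p ≫ i = f ∧ IsCov p ∧ Smooth V.hom ∧ QuasiCompact V.hom ∧
      (ConnectedSpace H.left → ConnectedSpace V.left) ∧ (Red.IsSolvableGrp H → Red.IsSolvableGrp V) := by
  haveI := isSeparated_grp G
  obtain ⟨V, _, i, p, hi, hci, hpi, hp, hred⟩ := TorusImage.exists_red_image f
  haveI := hi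
  haveI := hci
  haveI := hp
  haveI := hred
  haveI : Mono i := Over.mono_of_mono_left i
  haveI hpm : IsMonHom p := AlgGrp33.AffineProper.isMonHom_of_mono p i f hpi
  haveI : LocallyOfFiniteType V.hom := by rw [← Over.w i]; infer_instance
  haveI : QuasiCompact V.hom := by rw [← Over.w i]; infer_instance
  haveI hV : Smooth V.hom := AlgGrp33.IsogSub.smooth_of_reduced V
  have hc : IsCov p := isCov_of_surjective p
  refine ⟨V, inferInstance, i, p, hi, hci, hpm, hpi, hc, hV, inferInstance, fun h => ?_, fun h => ?_⟩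
  · haveI := h
    exact p.left.surjective.connectedSpace p.left.continuous
  · haveI := hc.flat
    exact Groth.Agent.S7997.result k H V p h

/-- the preimage of a closed subgroup by a covering homomorphism -/
theorem exists_preimage {G Q B : Over (Spec (CommRingCat.of k))} [GrpObj G] [GrpObj Q] [GrpObj B]
    [LocallyOfFiniteType G.hom] [QuasiCompact G.hom] (q : G ⟶ Q) [IsMonHom q] (hq : IsCov q)
    (iB : B ⟶ Q) [IsMonHom iB] [IsClosedImmersion iB.left] :
    ∃ (P : Over (Spec (CommRingCat.of k))) (_ : GrpObj P) (i : P ⟶ G) (π : P ⟶ B), IsMonHom i ∧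
      IsClosedImmersion i.left ∧ IsMonHom π ∧ IsCov π ∧ LocallyOfFiniteType P.hom ∧ QuasiCompact P.hom ∧
      IsPullback i π q iB := by
  haveI : Mono iB := Over.mono_of_mono_left iB
  let P := Limits.pullback q iB
  let i : P ⟶ G := Limits.pullback.fst _ _
  let π : P ⟶ B := Limits.pullback.snd _ _
  have sq : IsPullback i π q iB := IsPullback.of_hasPullback _ _
  haveI : Mono i := inferInstanceAs (Mono (Limits.pullback.fst q iB))
  have hfac : ∀ {T : Over (Spec (CommRingCat.of k))} (x : T ⟶ G) (y : T ⟶ B), x ≫ q = y ≫ iB → ∃ z, z ≫ i = x :=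
    fun x y h => ⟨sq.lift x y h, sq.lift_fst _ _ _⟩
  have h1 : ∃ z, z ≫ i = (1 : pk ⟶ G) := hfac 1 1 (by rw [MonObj.one_comp, MonObj.one_comp])
  have hmul : ∃ z, z ≫ i = (fst P P ≫ i) * (snd P P ≫ i) :=
    hfac _ ((fst P P ≫ π) * (snd P P ≫ π)) (by
      rw [MonObj.mul_comp _ _ q, MonObj.mul_comp _ _ iB, Category.assoc, Category.assoc, Category.assoc, Category.assoc, sq.w])
  have hinv : ∃ z, z ≫ i = i⁻¹ := hfac _ π⁻¹ (by rw [GrpObj.inv_comp, GrpObj.inv_comp, sq.w])
  letI := SGA3a.grpObjOfMono i h1 hmul hinv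
  have hi : IsMonHom i := SGA3a.isMonHom_grpObjOfMono i h1 hmul hinv
  haveI := hi
  haveI : IsClosedImmersion i.left := MorphismProperty.of_isPullback (isPullback_left sq).flip inferInstance
  haveI : LocallyOfFiniteType P.hom := by rw [← Over.w i]; infer_instance
  haveI : QuasiCompact P.hom := by rw [← Over.w i]; infer_instance
  exact ⟨P, inferInstance, i, π, hi, inferInstance,
    AlgGrp33.AffineProper.isMonHom_of_mono π iB (i ≫ q) sq.w.symm, hq.of_isPullback sq, inferInstance,
    inferInstance, sq⟩

/-- a presentation as central extension of an affine group by an anti-affine one -/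
structure Affn (G : Over (Spec (CommRingCat.of k))) [GrpObj G] where
  Q : Over (Spec (CommRingCat.of k))
  [grpQ : GrpObj Q]
  M : Over (Spec (CommRingCat.of k))
  [grpM : GrpObj M]
  q : G ⟶ Q
  m : M ⟶ G
  [homQ : IsMonHom q]
  [homM : IsMonHom m]
  [affQ : IsAffine Q.left]
  [smoothQ : Smooth Q.hom]
  [connQ : ConnectedSpace Q.left]
  [smoothM : Smooth M.hom]
  [qcM : QuasiCompact M.hom]
  [connM : ConnectedSpace M.left]
  [commM : IsCommMonObj M]
  [closedM : IsClosedImmersion m.left]
  cov : IsCov q
  smooth_q : Smooth q.left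
  ker : AlgGrp.IsKernel m q
  antiAff : AntiAff M
  central : ∀ (X : Over (Spec (CommRingCat.of k))) (a : X ⟶ M) (g : X ⟶ G), (a ≫ m) * g = g * (a ≫ m)

attribute [instance] Affn.grpQ Affn.grpM Affn.homQ Affn.homM Affn.affQ Affn.smoothQ Affn.connQ Affn.smoothM
  Affn.qcM Affn.connM Affn.commM Affn.closedM

theorem nonempty_affn (G : Over (Spec (CommRingCat.of k))) [GrpObj G] [Smooth G.hom] [QuasiCompact G.hom]
    [ConnectedSpace G.left] : Nonempty (Affn G) := by
  obtain ⟨Q, _, q, M, _, m, hq, hA, hQft, hcov, hm, hcl, hker, -, hMft, hMqc, hanti⟩ :=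
    AlgGrp33.Affinize.exists_kernel G
  haveI := hq
  haveI := hm
  haveI := hA
  haveI := hcl
  haveI := hMft
  haveI := hMqc
  haveI := hQft
  haveI := hcov.surj
  haveI : Smooth M.hom := SGA3a.Affinization.smooth_of_antiAff M hanti
  haveI : ConnectedSpace M.left := SGA3a.Affinization.connectedSpace_of_antiAff hanti η[M]
  haveI : IsCommMonObj M := (Groth.Agent.S3293.result k M hanti).2
  haveI : Smooth Q.hom := smooth_of_isCov q hcov
  haveI : QuasiCompact Q.hom := by
    haveI : IsAffineHom Q.hom := inferInstance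
    infer_instance
  haveI : ConnectedSpace Q.left := q.left.surjective.connectedSpace q.left.continuous
  exact ⟨{ Q := Q, M := M, q := q, m := m, cov := hcov, ker := hker, antiAff := hanti,
           smooth_q := (Groth.Agent.S8003.result k G Q M q m hker).2 inferInstance,
           central := fun X a g => by
             simpa using Groth.Agent.S7996.result k M G hanti m X a X (𝟙 X) g }⟩

variable {G : Over (Spec (CommRingCat.of k))} [GrpObj G] (A : Affn G)

theorem Affn.m_comp : A.m ≫ A.q = 1 :=
  isKernel_comp_one A.ker (𝟙 A.M) |> fun h => by simpa using h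

/-- two points with the same image differ by a point of the anti-affine part -/
theorem Affn.exists_eq_mul {X : Over (Spec (CommRingCat.of k))} {a b : X ⟶ G} (h : a ≫ A.q = b ≫ A.q) :
    ∃ c : X ⟶ A.M, b = a * (c ≫ A.m) := by
  obtain ⟨c, hc⟩ := exists_ker_of_comp_one A.ker (a⁻¹ * b) (by
    rw [MonObj.mul_comp, GrpObj.inv_comp, h, inv_mul_cancel])
  exact ⟨c, by rw [hc, mul_inv_cancel_left]⟩

/-- a preimage in the group of a connected smooth subgroup is connected and smooth, solvable if it is -/
theorem Affn.preimage_props [Smooth G.hom] [QuasiCompact G.hom]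
    {P B : Over (Spec (CommRingCat.of k))} [GrpObj P] [GrpObj B] [Smooth B.hom] [QuasiCompact B.hom]
    [LocallyOfFiniteType P.hom] [QuasiCompact P.hom]
    (i : P ⟶ G) [IsMonHom i] [IsClosedImmersion i.left] (π : P ⟶ B) [IsMonHom π] (hπ : IsCov π)
    (iB : B ⟶ A.Q) [IsMonHom iB] (sq : IsPullback i π A.q iB) :
    Smooth P.hom ∧ (∃ m' : A.M ⟶ P, IsMonHom m' ∧ m' ≫ i = A.m) ∧
      (ConnectedSpace B.left → ConnectedSpace P.left) ∧ (Red.IsSolvableGrp B → Red.IsSolvableGrp P) := by
  haveI : Smooth π.left := MorphismProperty.of_isPullback (isPullback_left sq) A.smooth_q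
  haveI := hπ.surj
  haveI := hπ.flat
  haveI : Mono i := Over.mono_of_mono_left i
  have h1 : Smooth P.hom := by rw [← Over.w π]; infer_instance
  obtain ⟨m', hm1, hm2⟩ := sq.exists_lift A.m (1 : A.M ⟶ B) (by rw [A.m_comp, MonObj.one_comp])
  haveI : IsMonHom m' := AlgGrp33.AffineProper.isMonHom_of_mono m' i A.m hm1
  haveI : Mono A.m := Over.mono_of_mono_left A.m
  haveI : Mono m' := by
    haveI : Mono (m' ≫ i) := by rw [hm1]; infer_instance
    exact mono_of_mono m' i
  have hker : AlgGrp.IsKernel m' π := by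
    refine isKernel_of_pts m' π hm2 fun T x hx => ?_
    obtain ⟨c, hc⟩ := exists_ker_of_comp_one A.ker (x ≫ i) (by
      rw [Category.assoc, sq.w, ← Category.assoc, hx, MonObj.one_comp])
    exact ⟨c, by rw [← cancel_mono i, Category.assoc, hm1, hc]⟩
  refine ⟨h1, ⟨m', inferInstance, hm1⟩, fun hB => ?_, fun hB => ?_⟩
  · exact (Groth.Agent.S7982.result k A.M P B m' π hker).2.2 inferInstance hB
  · refine Groth.Agent.S7998.result k A.M P B m' π hker ⟨1, fun X => ?_⟩ hB
    rw [derivedSeries_one, commutator_eq_bot_iff_center_eq_top, eq_top_iff]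
    intro x _
    rw [Subgroup.mem_center_iff]
    exact fun y => mul_comm y x

end Groth.Agent.SGA3a.NonAff
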