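import Groth.Agent.SGA3a.NonAff.Borel
import Groth.Agent.AlgGrp79.BorelNormalizer
import Groth.Agent.SGA3a.Transporter
import Groth.Agent.S5358
import Groth.Agent.S3911

/-!
Normalisers of Cartan subgroups and of maximal tori over an algebraically closed field.
-/

set_option autoImplicit false
set_option linter.unusedSectionVars false
set_option linter.style.haveILetI false
set_option backward.isDefEq.respectTransparency.types false

universe u

open CategoryTheory MonoidalCategory CartesianMonoidalCategory MonObj GrpObj AlgebraicGeometry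

noncomputable section

namespace Groth.Agent.SGA3a.NonAff

open AlgGrp79

variable {k : Type u} [Field k] [IsAlgClosed k]

local notation "pk" => 𝟙_ (Over (Spec (CommRingCat.of k)))
local notation "bS" => 𝟙 (Spec (CommRingCat.of k))

/-- `g` normalises the subgroup `i` functorially -/
def NormPred {H G X : Over (Spec (CommRingCat.of k))} [GrpObj G] (i : H ⟶ G) (g : X ⟶ G) : Prop :=
  ∀ (X' : Over (Spec (CommRingCat.of k))) (x : X' ⟶ X) (h : X' ⟶ H),
    (∃ h' : X' ⟶ H, (x ≫ g) * (h ≫ i) * (x ≫ g)⁻¹ = h' ≫ i) ∧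
    (∃ h' : X' ⟶ H, (x ≫ g)⁻¹ * (h ≫ i) * (x ≫ g) = h' ≫ i)

/-- the normaliser of a subgroup normalises its centraliser -/
theorem NormPred.centralizer {G T C X : Over (Spec (CommRingCat.of k))} [GrpObj G] [GrpObj T] [GrpObj C]
    {i : T ⟶ G} {c : C ⟶ G} (hc : Red.IsCentralizerOf i c) {g : X ⟶ G} (hg : NormPred i g) : NormPred c g := by
  intro X' x h
  constructor
  · obtain ⟨z, hz⟩ := (hc.2.2 X' ((x ≫ g) * (h ≫ c) * (x ≫ g)⁻¹)).2 fun X'' y s => by
      obtain ⟨s', hs'⟩ := (hg X'' (y ≫ x) s).2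
      have e := (hc.2.2 X' (h ≫ c)).1 ⟨h, rfl⟩ X'' y s'
      rw [← hs'] at e
      simp only [MonObj.comp_mul, GrpObj.comp_inv, Category.assoc] at e ⊢
      have e' := congrArg (fun w => (y ≫ x ≫ g) * w * (y ≫ x ≫ g)⁻¹) e
      simp only [_root_.mul_assoc, mul_inv_cancel_left, mul_inv_cancel, _root_.mul_one] at e' ⊢
      exact e'
    exact ⟨z, hz.symm⟩
  · obtain ⟨z, hz⟩ := (hc.2.2 X' ((x ≫ g)⁻¹ * (h ≫ c) * (x ≫ g))).2 fun X'' y s => by
      obtain ⟨s', hs'⟩ := (hg X'' (y ≫ x) s).1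
      have e := (hc.2.2 X' (h ≫ c)).1 ⟨h, rfl⟩ X'' y s'
      rw [← hs'] at e
      simp only [MonObj.comp_mul, GrpObj.comp_inv, Category.assoc] at e ⊢
      have e' := congrArg (fun w => (y ≫ x ≫ g)⁻¹ * w * (y ≫ x ≫ g)) e
      simp only [_root_.mul_assoc, inv_mul_cancel_left, inv_mul_cancel, _root_.mul_one] at e' ⊢
      exact e'
    exact ⟨z, hz.symm⟩

/-- a point whose conjugation maps the centraliser into itself does the same to the maximal torus -/
theorem exists_conj_factor {G T C : Over (Spec (CommRingCat.of k))} [GrpObj G] [GrpObj T] [GrpObj C]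
    [Smooth C.hom] [QuasiCompact C.hom] [ConnectedSpace C.left] {i : T ⟶ G} {c : C ⟶ G}
    (hT : AGF.IsMaxTorus i) (hc : Red.IsCentralizerOf i c) (p : pk ⟶ G) (t : T ⟶ C)
    (ht : t ≫ c = AGF.conjBy p i) : ∃ f : T ⟶ T, f ≫ i = AGF.conjBy p i := by
  obtain ⟨him, himono, hTt, -⟩ := id hT
  obtain ⟨hcm, hcmono, hcI⟩ := hc
  haveI := hcm
  haveI := hcmono
  obtain ⟨_, _, _, _, _⟩ := AlgGrp33.IsogSub.torus_props hTt
  haveI := him
  obtain ⟨tC, htC⟩ := (hcI T i).2 fun X' x h => by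
    rw [← MonObj.mul_comp _ _ i, ← MonObj.mul_comp _ _ i, mul_comm x h]
  have h1 := AGF80.BorelCor.isMaxTorus_of_factor hT c tC htC
  have h2 := AGF80.BorelCor.isMaxTorus_of_factor (AGF80.BorelCor.isMaxTorus_conjBy hT p) c t ht
  obtain ⟨g, φ, hφ⟩ := maxTorus_conj h1 h2
  have e : AGF.conjBy g tC = tC := by
    rw [← cancel_mono c]
    have := (hcI T ((toUnit T ≫ g) ≫ c)).1 ⟨_, rfl⟩ T (𝟙 T) (𝟙 T)
    simp only [Category.id_comp] at this
    simp only [AGF.conjBy, MonObj.mul_comp, GrpObj.inv_comp]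
    rw [htC, this, mul_inv_cancel_right]
  refine ⟨φ.inv, ?_⟩
  rw [← ht, ← htC, ← e, hφ, Category.assoc, Iso.inv_hom_id_assoc]

/-- rational points normalising the centraliser normalise the maximal torus -/
theorem NormPred.torus_of_pt {G T C : Over (Spec (CommRingCat.of k))} [GrpObj G] [GrpObj T] [GrpObj C]
    [Smooth C.hom] [QuasiCompact C.hom] [ConnectedSpace C.left] {i : T ⟶ G} {c : C ⟶ G}
    (hT : AGF.IsMaxTorus i) (hc : Red.IsCentralizerOf i c) {p : pk ⟶ G} (hp : NormPred c p) : NormPred i p := by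
  obtain ⟨him, -, hTt, -⟩ := id hT
  haveI := him
  obtain ⟨_, _, _, _, _⟩ := AlgGrp33.IsogSub.torus_props hTt
  obtain ⟨tC, htC⟩ := (hc.2.2 T i).2 fun X' x h => by
    rw [← MonObj.mul_comp _ _ i, ← MonObj.mul_comp _ _ i, mul_comm x h]
  obtain ⟨⟨a, ha⟩, b, hb⟩ := hp T (toUnit T) tC
  rw [htC] at ha hb
  obtain ⟨f, hf⟩ := exists_conj_factor hT hc p a ha.symm
  obtain ⟨f', hf'⟩ := exists_conj_factor hT hc p⁻¹ b (by
    rw [← hb]; simp only [AGF.conjBy, GrpObj.comp_inv, _root_.inv_inv])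
  intro X' x h
  have e : ∀ q : pk ⟶ G, x ≫ q = toUnit X' ≫ q := fun q => by rw [toUnit_unique x (toUnit X')]
  refine ⟨⟨h ≫ f, ?_⟩, h ≫ f', ?_⟩
  · rw [Category.assoc, hf, BorelConj.comp_conjBy, e]
  · rw [Category.assoc, hf', BorelConj.comp_conjBy, e]
    simp only [AGF.conjBy, GrpObj.comp_inv, _root_.inv_inv]

section Affine

variable (G : Over (Spec (CommRingCat.of k))) [GrpObj G] [IsAffine G.left] [Smooth G.hom]

open scoped TensorProduct in
/-- tangent vectors normalising a subgroup containing the centraliser of a torus are tangent to it -/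
theorem dual_mem_cent {T C : Over (Spec (CommRingCat.of k))} [GrpObj T] [GrpObj C] (iT : T ⟶ G) [IsMonHom iT]
    (hT : Red.IsTorus T) (z : C ⟶ G) [IsMonHom z] (hz : Red.IsCentralizerOf iT z) (t : T ⟶ C) (ht : t ≫ z = iT)
    (v : LieS.Lie G k bS)
    (hnorm : ∀ (X' : Over (Spec (CommRingCat.of k))) (x : X' ⟶ LieS.dpt k bS) (h : X' ⟶ C),
      ∃ h' : X' ⟶ C, (x ≫ v.1) * (h ≫ z) * (x ≫ v.1)⁻¹ = h' ≫ z) :
    ∃ w : LieS.Lie C k bS, LieS.map k bS z w = v := by
  classical
  obtain ⟨-, hzmono, -⟩ := id hz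
  haveI := hzmono
  obtain ⟨_, _, _, _, _⟩ := AlgGrp33.IsogSub.torus_props hT
  obtain ⟨ℓ, N, hℓp, hℓ, hfin, hdet⟩ := TorsionDetect.exists_detect iT hT
  letI : CommGroup (LieS.Lie G k bS) :=
    { (inferInstance : Group (LieS.Lie G k bS)) with mul_comm := LieS93.lie_mul_comm (f := bS) }
  let S : Subgroup (LieS.Lie G k bS) := (LieS.map k bS z).range
  have hS : ∀ (x : LieS.Lie G k bS) (d : LieS.dpt k bS ⟶ C), d ≫ z = x.1 → x ∈ S := fun x d hd => by
    refine ⟨⟨d, ?_⟩, Subtype.ext hd⟩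
    rw [LieS.mem_Lie_iff, ← cancel_mono z, Category.assoc, hd, MonObj.one_comp]
    exact (LieS.mem_Lie_iff _ _ _ _).1 x.2
  let F : Subgroup (pk ⟶ T) :=
    { carrier := {s | s ^ (ℓ ^ N) = 1}
      one_mem' := one_pow _
      mul_mem' := fun {a b} ha hb => by
        show (a * b) ^ (ℓ ^ N) = 1
        rw [(show Commute a b from mul_comm a b).mul_pow, show a ^ (ℓ ^ N) = 1 from ha, show b ^ (ℓ ^ N) = 1 from hb,
          _root_.one_mul]
      inv_mem' := fun {a} ha => by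
        show a⁻¹ ^ (ℓ ^ N) = 1
        rw [inv_pow, show a ^ (ℓ ^ N) = 1 from ha, inv_one] }
  haveI : Finite F := hfin.to_subtype
  haveI : Fintype F := Fintype.ofFinite F
  let c : (pk ⟶ T) → (LieS.dpt k bS ⟶ G) := fun s => LieS.proj k bS ≫ s ≫ iT
  let ad : (pk ⟶ T) → LieS.Lie G k bS →* LieS.Lie G k bS := fun s => LieS.Ad G k bS (s ≫ iT)
  have hval : ∀ s x, (ad s x).1 = c s * x.1 * (c s)⁻¹ := fun s x => rfl
  have hcmul : ∀ r s, c (r * s) = c r * c s := fun r s => by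
    show LieS.proj k bS ≫ (r * s) ≫ iT = _
    rw [MonObj.mul_comp _ _ iT, MonObj.comp_mul]
  have hadmul : ∀ r s x, ad (r * s) x = ad r (ad s x) := fun r s x => Subtype.ext (by
    rw [hval, hval, hval, hcmul]; group)
  let Y : LieS.Lie G k bS := ∏ s : F, ad s.1 v
  have hYfix : ∀ r : F, ad r.1 Y = Y := fun r => by
    show ad r.1 (∏ s : F, ad s.1 v) = ∏ s : F, ad s.1 v
    rw [map_prod]
    refine Fintype.prod_equiv (Equiv.mulLeft r) _ _ fun s => ?_
    rw [← hadmul]
    rfl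
  have hYS : Y ∈ S := by
    have hcomm := hdet (DualNumber k) (BorelNormalizer.dptIso.hom ≫ Y.1) fun s hs => by
      have h := congrArg Subtype.val (hYfix ⟨s, hs⟩)
      rw [hval, mul_inv_eq_iff_eq_mul] at h
      have hcs : toUnit (VecGrp.pt k (DualNumber k)) ≫ s ≫ iT = BorelNormalizer.dptIso.hom ≫ c s := by
        show _ = BorelNormalizer.dptIso.hom ≫ LieS.proj k bS ≫ s ≫ iT
        rw [← Category.assoc BorelNormalizer.dptIso.hom,
          toUnit_unique (BorelNormalizer.dptIso.hom ≫ LieS.proj k bS : _ ⟶ pk) (toUnit _)]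
      rw [hcs, ← MonObj.comp_mul, ← MonObj.comp_mul, h]
    obtain ⟨y, hy⟩ := (hz.2.2 _ Y.1).2 fun X' x h => by
      have := hcomm X' (x ≫ BorelNormalizer.dptIso.inv) h
      rwa [Category.assoc, Iso.inv_hom_id_assoc] at this
    exact hS Y y hy
  have hdiff : ∀ s : F, ad s.1 v * v⁻¹ ∈ S := fun s => by
    obtain ⟨h', hh'⟩ := hnorm _ (𝟙 _) (LieS.proj k bS ≫ s.1 ≫ t)⁻¹
    rw [Category.id_comp, GrpObj.inv_comp, Category.assoc, Category.assoc, ht] at hh'
    refine hS _ ((LieS.proj k bS ≫ s.1 ≫ t) * h') ?_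
    rw [MonObj.mul_comp _ _ z, ← hh', Category.assoc, Category.assoc, ht]
    show c s.1 * (v.1 * (c s.1)⁻¹ * v.1⁻¹) = (ad s.1 v).1 * v.1⁻¹
    rw [hval]
    group
  have hpow : v ^ Fintype.card F ∈ S := by
    have h1 : Y = (∏ s : F, (ad s.1 v * v⁻¹)) * v ^ Fintype.card F := by
      rw [Fintype.card, ← Finset.prod_const, ← Finset.prod_mul_distrib]
      exact Finset.prod_congr rfl fun s _ => (inv_mul_cancel_right _ _).symm
    rw [eq_inv_mul_of_mul_eq h1.symm]
    exact mul_mem (inv_mem (prod_mem fun s _ => hdiff s)) hYS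
  have hm : ((Fintype.card F : ℕ) : k) ≠ 0 := by
    haveI := Fact.mk hℓp
    obtain ⟨a, ha⟩ := IsPGroup.iff_card.1 (fun s : F => ⟨N, Subtype.ext (by rw [SubmonoidClass.coe_pow]; exact s.2)⟩ : IsPGroup ℓ F)
    rw [← Nat.card_eq_fintype_card, ha, Nat.cast_pow]
    exact pow_ne_zero a hℓ
  obtain ⟨w, hw⟩ := hpow
  refine ⟨((Fintype.card F : k)⁻¹) • w, Subtype.ext ?_⟩
  have h2 : v ^ Fintype.card F = (Fintype.card F : k) • v := by
    have := Groth.Agent.S8357.result (Spec (CommRingCat.of k)) G k bS v (Fintype.card F : ℤ)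
    rwa [zpow_natCast, Int.cast_natCast] at this
  show (LieS.scale k bS _ ≫ w.1) ≫ z = v.1
  rw [Category.assoc, show w.1 ≫ z = ((Fintype.card F : k) • v).1 from (congrArg Subtype.val hw).trans (congrArg Subtype.val h2)]
  show (((Fintype.card F : k)⁻¹) • ((Fintype.card F : k) • v)).1 = v.1
  rw [← BorelNormalizer.smul_smul_lie, inv_mul_cancel₀ hm, LieS93.one_smul']

/-- in an affine connected group the normaliser of a Cartan subgroup normalises its torus -/
theorem NormPred.torus_of_affine [ConnectedSpace G.left] {T C X : Over (Spec (CommRingCat.of k))} [GrpObj T]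
    [GrpObj C] {iT : T ⟶ G} {c : C ⟶ G} (hT : AGF.IsMaxTorus iT) (hc : Red.IsCentralizerOf iT c) {g : X ⟶ G}
    (hg : NormPred c g) : NormPred iT g := by
  obtain ⟨him, himono, hTt, -⟩ := id hT
  obtain ⟨hcm, hcmono, hcI⟩ := id hc
  haveI := him
  haveI := himono
  haveI := hcm
  haveI := hcmono
  obtain ⟨hCs, hcl, hCc⟩ := CentTorus.centralizer_props G iT hTt c hc
  haveI := hCs
  haveI := hcl
  haveI := hCc
  obtain ⟨_, _, _, _, _⟩ := AlgGrp33.IsogSub.torus_props hTt
  haveI : QuasiCompact C.hom := by rw [← Over.w c]; infer_instance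
  obtain ⟨tC, htC⟩ := (hcI T iT).2 fun X' x h => by
    rw [← MonObj.mul_comp _ _ iT, ← MonObj.mul_comp _ _ iT, mul_comm x h]
  obtain ⟨N, _, n, hncl, hN⟩ := (Groth.Agent.S5358.result k G C C c c).2.2 C c
  obtain ⟨hnm, hnmono, hNiff⟩ := hN
  haveI := hnm
  haveI := hnmono
  haveI := hncl
  haveI : LocallyOfFiniteType N.hom := by rw [← Over.w n]; infer_instance
  obtain ⟨p, hp⟩ := (hNiff C c).2 fun X' x h => ⟨⟨x * h * x⁻¹, by
    simp only [MonObj.mul_comp, GrpObj.inv_comp]⟩, ⟨x⁻¹ * h * x, by simp only [MonObj.mul_comp, GrpObj.inv_comp]⟩⟩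
  haveI : IsMonHom p := AlgGrp33.AffineProper.isMonHom_of_mono p n c hp
  haveI : IsClosedImmersion p.left := by
    haveI : IsClosedImmersion (p.left ≫ n.left) := by rw [← Over.comp_left, hp]; infer_instance
    exact IsClosedImmersion.of_comp p.left n.left
  have hL : Function.Surjective (LieS.map k bS p) := fun v => by
    obtain ⟨w, hw⟩ := dual_mem_cent G iT hTt c hc tC htC (LieS.map k bS n v) fun X' x h => by
      obtain ⟨h', hh'⟩ := ((hNiff _ (v.1 ≫ n)).1 ⟨v.1, rfl⟩ X' x h).1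
      exact ⟨h', hh'⟩
    refine ⟨w, Subtype.ext ((cancel_mono n).1 ?_)⟩
    show (w.1 ≫ p) ≫ n = v.1 ≫ n
    rw [Category.assoc, hp]
    exact congrArg Subtype.val hw
  haveI : IsReduced N.left := by
    have h := (regular_and_injective_of_lie_surjective p hL).1
    haveI := h
    haveI := Groth.Agent.S0558.result (N.left.presheaf.stalk (p.left (η[C].left (IsLocalRing.closedPoint k))))
    have he : η[N].left (IsLocalRing.closedPoint k) = p.left (η[C].left (IsLocalRing.closedPoint k)) := by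
      rw [← Scheme.Hom.comp_apply, ← Over.comp_left, IsMonHom.one_hom]
    exact isReduced_of_stalk_unit N (IsLocalRing.closedPoint k) (by
      show _root_.IsReduced (N.left.presheaf.stalk (η[N].left (IsLocalRing.closedPoint k)))
      rw [he]
      infer_instance)
  obtain ⟨NT, _, nT, hNT, hnTcl, -⟩ :=
    (Groth.Agent.S3006.result _ G T iT (AGF80.BorelCor.isClosedImmersion_torus G hTt iT) hTt).2
  haveI := hnTcl
  obtain ⟨r, hr⟩ := AGF80.BorelCor.exists_factor_of_pts n nT fun z =>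
    (hNT.2.2 _ (z ≫ n)).2 (NormPred.torus_of_pt hT hc ((hNiff _ (z ≫ n)).1 ⟨z, rfl⟩))
  obtain ⟨z, hz⟩ := (hNiff X g).2 hg
  exact (hNT.2.2 X g).1 ⟨z ≫ r, by rw [Category.assoc, hr, hz]⟩

end Affine

end Groth.Agent.SGA3a.NonAff
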