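import Groth.Agent.SGA3a.NonAff.Exists
import Groth.Agent.AlgGrp79.BorelQuot
import Groth.Agent.AGF80.UnipRad
import Mathlib.AlgebraicGeometry.Morphisms.FlatDescent

/-!
Images of maximal tori and of their centralisers under surjective homomorphisms of connected smooth groups.
-/

set_option autoImplicit false
set_option linter.unusedSectionVars false
set_option linter.style.haveILetI false
set_option backward.isDefEq.respectTransparency.types false

universe u

open CategoryTheory MonoidalCategory CartesianMonoidalCategory MonObj GrpObj AlgebraicGeometry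

noncomputable section

namespace Groth.Agent.SGA3a.NonAff

open AlgGrp79

variable {k : Type u} [Field k] [IsAlgClosed k]

local notation "pk" => 𝟙_ (Over (Spec (CommRingCat.of k)))

/-- a subgroup covered by a flat surjection is the image -/
theorem exists_iso_image {A H V V' : Over (Spec (CommRingCat.of k))} [QuasiCompact A.hom] [IsSeparated H.hom]
    {f : A ⟶ H} {v : V ⟶ H} [Mono v] {w : A ⟶ V} (hw : IsCov w) (hwv : w ≫ v = f) {v' : V' ⟶ H} [Mono v']
    {w' : A ⟶ V'} [Flat w'.left] [Surjective w'.left] (hwv' : w' ≫ v' = f) : ∃ d : V ≅ V', d.hom ≫ v' = v := by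
  obtain ⟨d, hd⟩ := hw.desc w' fun T a b hab => by
    rw [← cancel_mono v', Category.assoc, Category.assoc, hwv', ← hwv, reassoc_of% hab]
  haveI := hw.epi
  have hdv : d ≫ v' = v := by rw [← cancel_epi w, reassoc_of% hd, hwv', hwv]
  haveI : Mono d := by
    haveI : Mono (d ≫ v') := by rw [hdv]; infer_instance
    exact mono_of_mono d v'
  haveI : Mono d.left := inferInstance
  haveI : IsSeparated V'.hom := by
    haveI : IsSeparated v'.left := inferInstance
    rw [← Over.w v']; infer_instance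
  haveI : QuasiCompact w'.left := by
    haveI : QuasiCompact (w'.left ≫ V'.hom) := by rw [Over.w]; infer_instance
    exact QuasiCompact.of_comp w'.left V'.hom
  have sq := IsPullback.of_hasPullback w'.left d.left
  haveI : IsIso (Limits.pullback.fst w'.left d.left) := by
    refine ⟨Limits.pullback.lift (𝟙 _) w.left (by rw [Category.id_comp, ← Over.comp_left, hd]), ?_,
      Limits.pullback.lift_fst _ _ _⟩
    apply Limits.pullback.hom_ext
    · rw [Category.assoc, Limits.pullback.lift_fst, Category.comp_id, Category.id_comp]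
    · rw [Category.assoc, Limits.pullback.lift_snd, Category.id_comp, ← cancel_mono d.left, Category.assoc,
        ← Over.comp_left, hd, Limits.pullback.condition]
  haveI : IsIso d.left := MorphismProperty.of_isPullback_of_descendsAlong (P := MorphismProperty.isomorphisms Scheme.{u})
    (Q := @Surjective ⊓ @Flat ⊓ @QuasiCompact) sq ⟨⟨‹_›, ‹_›⟩, ‹_›⟩ (‹IsIso (Limits.pullback.fst w'.left d.left)›)
  haveI : IsIso ((Over.forget _).map d) := ‹IsIso d.left›
  haveI : IsIso d := isIso_of_reflects_iso d (Over.forget _)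
  exact ⟨asIso d, hdv⟩

/-- connected families of points normalising a torus centralise it -/
theorem comm_of_normalizes {K G T : Over (Spec (CommRingCat.of k))} [GrpObj K] [GrpObj G] [GrpObj T] [Smooth K.hom]
    [QuasiCompact K.hom] [ConnectedSpace K.left] [LocallyOfFiniteType G.hom] [QuasiCompact G.hom] (hT : Red.IsTorus T)
    (i : T ⟶ G) [IsMonHom i] [Mono i] (z : K ⟶ G) [IsMonHom z]
    (h : ∀ r : pk ⟶ K, ∃ f : T ⟶ T, f ≫ i = AGF.conjBy (r ≫ z) i) (r : pk ⟶ K) :
    AGF.conjBy (r ≫ z) i = i := by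
  obtain ⟨_, _, _, _, _⟩ := AlgGrp33.IsogSub.torus_props hT
  haveI := isSeparated_grp G
  haveI := AGF80.BorelCor.isClosedImmersion_torus G hT i
  haveI : IsReduced K.left := isReduced_of_smooth K.hom
  obtain ⟨ℓ, hℓp, hℓk⟩ := exists_prime_ne_zero (k := k)
  refine eq_of_torsion hT _ _ hℓp.one_lt hℓk fun τ j hτ => ?_
  let E : K ⟶ G := z * (toUnit K ≫ τ ≫ i) * z⁻¹
  have hE : ∀ p : pk ⟶ K, p ≫ E = (p ≫ z) * (τ ≫ i) * (p ≫ z)⁻¹ := fun p => by
    simp only [E, MonObj.comp_mul, GrpObj.comp_inv, comp_toUnit_assoc]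
    rw [show toUnit pk = 𝟙 pk from toUnit_unique _ _, Category.id_comp]
  obtain ⟨e, he⟩ := AGF80.BorelCor.exists_factor_of_pts E i fun p => by
    obtain ⟨f, hf⟩ := h p
    exact ⟨τ ≫ f, by rw [Category.assoc, hf, AGF80.UnipRad.pt_conjBy, hE]⟩
  have hval : ∀ p : pk ⟶ K, p ≫ e ∈ {q : pk ⟶ T | q ^ (ℓ ^ j) = 1} := fun p => by
    show (p ≫ e) ^ (ℓ ^ j) = 1
    rw [← cancel_mono i, MonObj.pow_comp, Category.assoc, he, hE, conj_pow, ← MonObj.pow_comp, hτ,
      MonObj.one_comp, _root_.mul_one, mul_inv_cancel]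
  have h1 := congrArg (· ≫ i) (const_of_finite e (finite_torsion (M := T) (n := ℓ ^ j)
    (by push_cast; exact pow_ne_zero _ hℓk)) hval r 1)
  simp only [Category.assoc, he, hE] at h1
  rw [AGF80.UnipRad.pt_conjBy, h1, MonObj.one_comp, _root_.one_mul, inv_one, _root_.mul_one]

/-- an open subgroup maps onto a connected smooth image -/
theorem surjective_comp_open {N K Y : Over (Spec (CommRingCat.of k))} [GrpObj N] [GrpObj K] [GrpObj Y]
    [LocallyOfFiniteType N.hom] [QuasiCompact N.hom] [Smooth K.hom] [QuasiCompact K.hom] [Smooth Y.hom]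
    [QuasiCompact Y.hom] [ConnectedSpace Y.left] (z : K ⟶ N) [IsMonHom z] (hz : IsOpen (Set.range z.left))
    (ρ : N ⟶ Y) [IsMonHom ρ] (hρ : ∀ y : pk ⟶ Y, ∃ x, x ≫ ρ = y) : Surjective (z ≫ ρ).left := by
  obtain ⟨W, _, w, p, hw, hwcl, hpm, hpw, hp, -, -, -, -⟩ := exists_smooth_image (z ≫ ρ)
  haveI := hw
  haveI := hwcl
  haveI := hp.surj
  haveI := isSeparated_grp N
  haveI := isSeparated_grp Y
  haveI := irreducibleSpace_grp Y
  haveI : JacobsonSpace N.left := LocallyOfFiniteType.jacobsonSpace N.hom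
  haveI : JacobsonSpace Y.left := LocallyOfFiniteType.jacobsonSpace Y.hom
  haveI : CompactSpace N.left := QuasiCompact.compactSpace_of_compactSpace N.hom
  let o := IsLocalRing.closedPoint k
  -- translates
  let tr : ∀ {M : Over (Spec (CommRingCat.of k))} [GrpObj M], (pk ⟶ M) → (M ≅ M) := fun {M} _ a =>
    ⟨(toUnit M ≫ a) * 𝟙 M, (toUnit M ≫ a)⁻¹ * 𝟙 M,
      by simp [MonObj.comp_mul, GrpObj.comp_inv], by simp [MonObj.comp_mul, GrpObj.comp_inv]⟩
  have htr : ∀ {M : Over (Spec (CommRingCat.of k))} [GrpObj M] (a u : pk ⟶ M), u ≫ (tr a).hom = a * u :=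
    fun a u => by
      simp only [tr, MonObj.comp_mul, Category.comp_id, comp_toUnit_assoc]
      rw [show toUnit pk = 𝟙 pk from toUnit_unique _ _, Category.id_comp]
  let U : (pk ⟶ N) → Set N.left := fun a => (tr a).inv.left ⁻¹' Set.range z.left
  have hU : ∀ a, IsOpen (U a) := fun a => hz.preimage (tr a).inv.left.continuous
  have hcov : Set.univ ⊆ ⋃ a, U a := by
    intro x _
    obtain ⟨x', hx', hxc⟩ := nonempty_inter_closedPoints (Z := closure ({x} : Set N.left))
      ⟨x, subset_closure rfl⟩ isClosed_closure.isLocallyClosed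
    obtain ⟨a, ha⟩ := ptVal_eq x' hxc
    have hmem : x' ∈ U a := by
      show (tr a).inv.left x' ∈ Set.range z.left
      refine ⟨(1 : pk ⟶ K).left o, ?_⟩
      rw [← ha, ← Scheme.Hom.comp_apply, ← Scheme.Hom.comp_apply, ← Over.comp_left, ← Over.comp_left]
      congr 3
      rw [MonObj.one_comp]
      simp only [tr, MonObj.comp_mul, GrpObj.comp_inv, Category.comp_id, comp_toUnit_assoc]
      rw [show toUnit pk = 𝟙 pk from toUnit_unique _ _, Category.id_comp, inv_mul_cancel]
    obtain ⟨_, hy, rfl⟩ := mem_closure_iff.1 hx' (U a) (hU a) hmem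
    exact Set.mem_iUnion.2 ⟨a, hy⟩
  obtain ⟨t, ht⟩ := isCompact_univ.elim_finite_subcover U hU hcov
  let Wa : (pk ⟶ N) → Set Y.left := fun a => (tr (a ≫ ρ)).inv.left ⁻¹' Set.range w.left
  have hWa : ∀ a, IsClosed (Wa a) := fun a =>
    w.left.isClosedEmbedding.isClosed_range.preimage (tr (a ≫ ρ)).inv.left.continuous
  have hall : (⋃ a ∈ t, Wa a) = Set.univ := by
    by_contra hne
    obtain ⟨y, hy, hyc⟩ := nonempty_inter_closedPoints (Z := (⋃ a ∈ t, Wa a)ᶜ) (Set.nonempty_compl.2 hne)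
      (isClosed_biUnion_finset fun a _ => hWa a).isOpen_compl.isLocallyClosed
    obtain ⟨y₀, hy₀⟩ := ptVal_eq y hyc
    obtain ⟨x, hx⟩ := hρ y₀
    obtain ⟨a, ha, hxa⟩ := Set.mem_iUnion₂.1 (ht (Set.mem_univ (x.left o)))
    refine hy (Set.mem_iUnion₂.2 ⟨a, ha, ?_⟩)
    obtain ⟨u, hu⟩ := hxa
    refine ⟨p.left u, ?_⟩
    rw [← Scheme.Hom.comp_apply, ← Over.comp_left, hpw, Over.comp_left, Scheme.Hom.comp_apply, hu, ← hy₀, ← hx,
      ← Scheme.Hom.comp_apply, ← Scheme.Hom.comp_apply, ← Scheme.Hom.comp_apply, ← Over.comp_left, ← Over.comp_left,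
      ← Over.comp_left]
    congr 3
    simp only [tr, MonObj.comp_mul, GrpObj.comp_inv, MonObj.mul_comp, GrpObj.inv_comp, Category.comp_id,
      comp_toUnit_assoc, Category.assoc, Category.id_comp]
  obtain ⟨Z, hZ, hau⟩ := isIrreducible_iff_sUnion_isClosed.1 (IrreducibleSpace.isIrreducible_univ Y.left)
    (Finset.image Wa t) (by simp only [Finset.mem_image]; rintro _ ⟨a, -, rfl⟩; exact hWa a)
    (by rw [Finset.coe_image, Set.sUnion_image]; exact hall.ge)
  haveI : Surjective w.left := by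
    refine ⟨fun y => ?_⟩
    obtain ⟨b, -, rfl⟩ := Finset.mem_image.1 hZ
    obtain ⟨u, hu⟩ := hau (Set.mem_univ ((tr (b ≫ ρ)).hom.left y))
    refine ⟨u, hu.trans ?_⟩
    rw [← Scheme.Hom.comp_apply, ← Over.comp_left, Iso.hom_inv_id]; rfl
  rw [← hpw, Over.comp_left]; infer_instance

end Groth.Agent.SGA3a.NonAff
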