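import Groth.Agent.SGA3a.NonAff.Tori
import Groth.Agent.SGA3a.SubQuot
import Groth.Agent.Alb96.GeomInt
import Groth.Agent.S11397
import Groth.Agent.S3023

/-!
Tori lift along surjections of commutative groups; images of maximal tori in the affinization are maximal.
-/

set_option autoImplicit false
set_option linter.unusedSectionVars false
set_option linter.style.haveILetI false
set_option backward.isDefEq.respectTransparency.types false

universe u

open CategoryTheory MonoidalCategory CartesianMonoidalCategory MonObj GrpObj AlgebraicGeometry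

noncomputable section

namespace Groth.Agent.SGA3a.NonAff

open AlgGrp79

variable {k : Type u} [Field k] [IsAlgClosed k]

local notation "pk" => 𝟙_ (Over (Spec (CommRingCat.of k)))

/-- the open neutral component -/
theorem exists_neutral (G : Over (Spec (CommRingCat.of k))) [GrpObj G] [Smooth G.hom] [QuasiCompact G.hom] :
    ∃ (G₀ : Over (Spec (CommRingCat.of k))) (_ : GrpObj G₀) (i : G₀ ⟶ G), IsMonHom i ∧ IsClosedImmersion i.left ∧
      IsOpenImmersion i.left ∧ Smooth G₀.hom ∧ QuasiCompact G₀.hom ∧ ConnectedSpace G₀.left ∧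
      Set.range i.left = connectedComponent (η[G].left (IsLocalRing.closedPoint k)) := by
  obtain ⟨G₀, _, i, hi, hcl, hfl, hr⟩ := Groth.Agent.S3023.result k G
  haveI := hi
  haveI := hcl
  haveI := hfl
  haveI : IsLocallyNoetherian G.left := LocallyOfFiniteType.isLocallyNoetherian G.hom
  haveI : LocallyOfFinitePresentation i.left := inferInstance
  haveI : Mono i.left := inferInstance
  haveI hop : IsOpenImmersion i.left := IsOpenImmersion.of_flat_of_mono i.left
  haveI : Smooth G₀.hom := by rw [← Over.w i]; infer_instance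
  haveI : QuasiCompact G₀.hom := by rw [← Over.w i]; infer_instance
  have e := hr (IsLocalRing.closedPoint k)
  haveI : ConnectedSpace G₀.left := by
    rw [connectedSpace_iff_univ]
    refine ⟨⟨η[G₀].left (IsLocalRing.closedPoint k), trivial⟩, ?_⟩
    rw [← i.left.isOpenEmbedding.isInducing.isPreconnected_image, Set.image_univ, e]
    exact isPreconnected_connectedComponent
  exact ⟨G₀, inferInstance, i, hi, hcl, hop, inferInstance, inferInstance, inferInstance, e⟩

/-- the irreducible space of a connected group -/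
theorem irreducibleSpace_grp (G : Over (Spec (CommRingCat.of k))) [GrpObj G] [LocallyOfFiniteType G.hom]
    [ConnectedSpace G.left] : IrreducibleSpace G.left := by
  have hirr := (Grp57.connectedComponent_unit G).1
  rw [PreconnectedSpace.connectedComponent_eq_univ] at hirr
  exact { isPreirreducible_univ := hirr.2, toNonempty := inferInstance }

/-- a positive dimensional group has nontrivial neutral component -/
theorem nontrivial_neutral {H H₀ : Over (Spec (CommRingCat.of k))} [GrpObj H] [GrpObj H₀] [Smooth H.hom]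
    [QuasiCompact H.hom] (i : H₀ ⟶ H) [IsOpenImmersion i.left]
    (hr : Set.range i.left = connectedComponent (η[H].left (IsLocalRing.closedPoint k)))
    (hdim : 0 < topologicalKrullDim ↥H.left) : ∃ x : pk ⟶ H, x ≠ 1 ∧ ∃ y, y ≫ i = x := by
  by_contra hno
  push Not at hno
  haveI : LocallyOfFiniteType H₀.hom := by rw [← Over.w i]; infer_instance
  haveI : JacobsonSpace H.left := LocallyOfFiniteType.jacobsonSpace H.hom
  haveI := isSeparated_grp H
  let e := η[H].left (IsLocalRing.closedPoint k)
  have hone : (1 : pk ⟶ H).left (IsLocalRing.closedPoint k) = e := by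
    rw [Hom.one_def, show toUnit pk = 𝟙 pk from toUnit_unique _ _, Category.id_comp]
  -- the component is a point
  have hsingle : connectedComponent e = {e} := by
    refine Set.Subset.antisymm ?_ (Set.singleton_subset_iff.2 mem_connectedComponent)
    rw [← hr]
    have hcl : IsClosed ({e} : Set H.left) := hone ▸ AlgGrp79.rat_isClosed (1 : pk ⟶ H)
    refine range_subset_of_pts i hcl fun p => ?_
    have : p ≫ i = 1 := by
      by_contra hne
      exact hno _ hne p rfl
    rw [this, hone]; rfl
  have hopen : IsOpen ({e} : Set H.left) := hsingle ▸ hr ▸ i.left.isOpenEmbedding.isOpen_range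
  have hdisc : ∀ z : H.left, IsOpen ({z} : Set H.left) ∧ IsClosed ({z} : Set H.left) := by
    have hpts : ∀ p : pk ⟶ H, IsOpen ({p.left (IsLocalRing.closedPoint k)} : Set H.left) := fun p => by
      let τ : H ⟶ H := (toUnit H ≫ p⁻¹) * 𝟙 H
      let τ' : H ⟶ H := (toUnit H ≫ p) * 𝟙 H
      let φ : H ≅ H := ⟨τ, τ', by
          simp only [τ, τ', MonObj.comp_mul, Category.comp_id, comp_toUnit_assoc, GrpObj.comp_inv, mul_inv_cancel_left],
        by simp only [τ, τ', MonObj.comp_mul, Category.comp_id, comp_toUnit_assoc, GrpObj.comp_inv, inv_mul_cancel_left]⟩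
      haveI : IsIso τ.left := ((Over.forget _).mapIso φ).isIso_hom
      have h2 : p ≫ τ = 1 := by
        simp only [τ, MonObj.comp_mul, Category.comp_id, comp_toUnit_assoc]
        rw [show toUnit pk = 𝟙 pk from toUnit_unique _ _, Category.id_comp, inv_mul_cancel]
      have h3 : ({p.left (IsLocalRing.closedPoint k)} : Set H.left) = τ.left ⁻¹' {e} := by
        ext z
        have hp : τ.left (p.left (IsLocalRing.closedPoint k)) = e := by
          rw [← Scheme.Hom.comp_apply, ← Over.comp_left, h2, hone]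
        exact ⟨fun hz => by rw [Set.mem_singleton_iff.1 hz]; exact hp,
          fun hz => τ.left.isOpenEmbedding.injective (hz.trans hp.symm)⟩
      rw [h3]
      exact hopen.preimage τ.left.continuous
    intro z
    obtain ⟨w, hw, hwc⟩ := nonempty_inter_closedPoints (Z := closure ({z} : Set H.left))
      ⟨z, subset_closure rfl⟩ isClosed_closure.isLocallyClosed
    obtain ⟨p, hp⟩ := ptVal_eq w hwc
    have hwo : IsOpen ({w} : Set H.left) := hp ▸ hpts p
    obtain ⟨_, rfl, hzw⟩ := mem_closure_iff.1 hw {w} hwo rfl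
    exact ⟨hzw ▸ hwo, hzw ▸ hwc⟩
  have hzero : ∀ z : H.left, (WC97.tdegN H.hom z : WithBot ℕ∞) ≤ (0 : ℕ) := fun z => by
    refine (WC97.topologicalKrullDim_closure H.hom z).ge.trans ?_
    rw [(hdisc z).2.closure_eq]
    haveI : Subsingleton (TopologicalSpace.IrreducibleCloseds ↥({z} : Set H.left)) := ⟨fun a b => by
      ext w
      obtain ⟨a₀, ha₀⟩ := a.isIrreducible.nonempty
      obtain ⟨b₀, hb₀⟩ := b.isIrreducible.nonempty
      exact ⟨fun _ => Subsingleton.elim b₀ w ▸ hb₀, fun _ => Subsingleton.elim a₀ w ▸ ha₀⟩⟩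
    exact Order.krullDim_nonpos_of_subsingleton
  exact absurd (Var76.FibreBound.dim_le_of_forall_univ H.hom (d := 0) hzero) (not_le.2 (by simpa using hdim))

/-- a commutative group has an affine connected subgroup with proper quotient -/
theorem exists_affine_proper_quotient (P : Over (Spec (CommRingCat.of k))) [GrpObj P] [Smooth P.hom]
    [QuasiCompact P.hom] [ConnectedSpace P.left] [IsCommMonObj P] :
    ∃ (H : Over (Spec (CommRingCat.of k))) (_ : GrpObj H) (h : H ⟶ P) (P' : Over (Spec (CommRingCat.of k)))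
      (_ : GrpObj P') (π : P ⟶ P'), IsMonHom h ∧ IsClosedImmersion h.left ∧ Smooth H.hom ∧ IsAffine H.left ∧
      ConnectedSpace H.left ∧ IsMonHom π ∧ IsCov π ∧ AlgGrp.IsKernel h π ∧ Smooth P'.hom ∧ ConnectedSpace P'.left ∧
      IsProper P'.hom := by
  haveI := isSeparated_grp P
  haveI := irreducibleSpace_grp P
  let D := WC97.tdegN P.hom (genericPoint P.left)
  -- subgroups ordered by the transcendence degree of their generic point
  suffices main : ∀ (n : ℕ) (H : Over (Spec (CommRingCat.of k))) [GrpObj H] (h : H ⟶ P) [IsMonHom h]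
      [IsClosedImmersion h.left] [Smooth H.hom] [IsAffine H.left] [ConnectedSpace H.left] (x : H.left),
      closure ({x} : Set H.left) = Set.univ → D - WC97.tdegN P.hom (h.left x) ≤ n →
      ∃ (H : Over (Spec (CommRingCat.of k))) (_ : GrpObj H) (h : H ⟶ P) (P' : Over (Spec (CommRingCat.of k)))
        (_ : GrpObj P') (π : P ⟶ P'), IsMonHom h ∧ IsClosedImmersion h.left ∧ Smooth H.hom ∧ IsAffine H.left ∧
        ConnectedSpace H.left ∧ IsMonHom π ∧ IsCov π ∧ AlgGrp.IsKernel h π ∧ Smooth P'.hom ∧ ConnectedSpace P'.left ∧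
        IsProper P'.hom by
    haveI : IsClosedImmersion (η[P] : pk ⟶ P).left := BorelFixed.rat_isClosedImmersion _
    haveI : Smooth (pk : Over (Spec (CommRingCat.of k))).hom := inferInstanceAs (Smooth (𝟙 _))
    haveI : IsAffine (pk : Over (Spec (CommRingCat.of k))).left := inferInstanceAs (IsAffine (Spec _))
    haveI : ConnectedSpace (pk : Over (Spec (CommRingCat.of k))).left := Prim37.connectedSpace_one
    haveI : Subsingleton (pk : Over (Spec (CommRingCat.of k))).left := inferInstanceAs (Subsingleton (PrimeSpectrum k))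
    exact main D pk η[P] (IsLocalRing.closedPoint k)
      (Set.eq_univ_of_forall fun z => subset_closure (Subsingleton.elim z _)) (Nat.sub_le _ _)
  intro n
  induction n using Nat.strong_induction_on with
  | _ n ih =>
  intro H _ h _ _ _ _ _ x hx hn
  haveI : Mono h := Over.mono_of_mono_left h
  have hnorm : AlgGrp.IsNormalHom h := fun X g y => ⟨y, by rw [mul_comm g, mul_inv_cancel_right]⟩
  obtain ⟨P', _, π, hπm, hπ, hP'ft, hP'qc, hP'sep, hker, -⟩ := SubQuot.exists_quotientGrp h hnorm
  haveI := hπm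
  haveI := hP'ft
  haveI := hP'qc
  haveI := hπ.surj
  haveI := hπ.flat
  haveI : Smooth P'.hom := smooth_of_isCov π hπ
  haveI : ConnectedSpace P'.left := π.left.surjective.connectedSpace π.left.continuous
  by_cases hp : IsProper P'.hom
  · exact ⟨H, inferInstance, h, P', inferInstance, π, inferInstance, inferInstance, inferInstance, inferInstance,
      inferInstance, hπm, hπ, hker, inferInstance, inferInstance, hp⟩
  obtain ⟨H₁, _, j₁, hj₁, hj₁cl, hH₁s, hH₁a, hH₁dim⟩ := Groth.Agent.S11397.result k P' hp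
  haveI := hj₁
  haveI := hj₁cl
  haveI := hH₁s
  haveI := hH₁a
  haveI : QuasiCompact H₁.hom := by rw [← Over.w j₁]; infer_instance
  obtain ⟨H₀, _, i₀, hi₀, hi₀cl, hi₀op, hH₀s, hH₀q, hH₀c, hi₀r⟩ := exists_neutral H₁
  haveI := hi₀
  haveI := hi₀cl
  haveI := hi₀op
  haveI := hH₀s
  haveI := hH₀q
  haveI := hH₀c
  haveI : IsAffine H₀.left := isAffine_of_isAffineHom i₀.left
  obtain ⟨y₁, hy₁, y₀, hy₀⟩ := nontrivial_neutral i₀ hi₀r hH₁dim
  haveI : IsClosedImmersion (i₀ ≫ j₁).left := inferInstanceAs (IsClosedImmersion (i₀.left ≫ j₁.left))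
  obtain ⟨E, _, e, ρ, hem, hecl, hρm, hρ, hEft, hEqc, sq⟩ := exists_preimage π hπ (i₀ ≫ j₁)
  haveI := hem
  haveI := hecl
  haveI := hρm
  haveI := hEft
  haveI := hEqc
  haveI := hρ.surj
  haveI := hρ.flat
  haveI : Mono e := Over.mono_of_mono_left e
  obtain ⟨h', hh'1, hh'2⟩ := sq.exists_lift h (1 : H ⟶ H₀) (by
    rw [MonObj.one_comp]; simpa using isKernel_comp_one hker (𝟙 H))
  haveI : IsMonHom h' := AlgGrp33.AffineProper.isMonHom_of_mono h' e h hh'1
  haveI : Mono h' := by
    haveI : Mono (h' ≫ e) := by rw [hh'1]; infer_instance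
    exact mono_of_mono h' e
  have hkerρ : AlgGrp.IsKernel h' ρ := by
    refine isKernel_of_pts h' ρ hh'2 fun T w hw => ?_
    obtain ⟨c, hc⟩ := exists_ker_of_comp_one hker (w ≫ e) (by
      rw [Category.assoc, sq.w, ← Category.assoc, hw, MonObj.one_comp])
    exact ⟨c, by rw [← cancel_mono e, Category.assoc, hh'1, hc]⟩
  obtain ⟨hEa, hEs, hEc⟩ := Groth.Agent.S7982.result k H E H₀ h' ρ hkerρ
  haveI := hEa inferInstance inferInstance
  haveI := hEs inferInstance inferInstance
  haveI := hEc inferInstance inferInstance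
  haveI := irreducibleSpace_grp E
  obtain ⟨ξ, hξ⟩ := QuasiSober.sober (IrreducibleSpace.isIrreducible_univ E.left) isClosed_univ
  have hξ' : closure ({ξ} : Set E.left) = Set.univ := hξ
  have hspec : e.left ξ ⤳ h.left x := by
    have : ξ ⤳ h'.left x := by
      rw [specializes_iff_mem_closure, hξ']; trivial
    have h2 := this.map e.left.continuous
    rwa [← Scheme.Hom.comp_apply, ← Over.comp_left, hh'1] at h2
  have hne : e.left ξ ≠ h.left x := fun heq => by
    -- otherwise the preimage would lie in the subgroup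
    have hsub : Set.range e.left ⊆ Set.range h.left := by
      rw [← Set.image_univ, ← hξ']
      refine (image_closure_subset_closure_image e.left.continuous).trans ?_
      rw [Set.image_singleton, heq]
      exact h.left.isClosedEmbedding.isClosed_range.closure_subset_iff.2
        (Set.singleton_subset_iff.2 ⟨x, rfl⟩)
    haveI : IsReduced E.left := isReduced_of_smooth E.hom
    obtain ⟨r, hr⟩ := exists_lift_of_range_subset h e hsub
    obtain ⟨w, hw⟩ := BorelImage.exists_pt_lift ρ y₀
    apply hy₁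
    have h3 : (y₀ ≫ i₀) ≫ j₁ = 1 := by
      rw [Category.assoc, ← hw, Category.assoc, ← sq.w, ← hr, Category.assoc,
        show h ≫ π = 1 by simpa using isKernel_comp_one hker (𝟙 H), MonObj.comp_one, MonObj.comp_one]
    haveI : Mono j₁ := Over.mono_of_mono_left j₁
    rwa [hy₀, ← MonObj.one_comp j₁, cancel_mono] at h3
  have hlt := Var76.FibreBound.tdegN_lt P.hom hspec hne
  have hle : WC97.tdegN P.hom (e.left ξ) ≤ D := Var76.FibreBound.tdegN_le P.hom (genericPoint_specializes _)
  exact ih (D - WC97.tdegN P.hom (e.left ξ)) (by omega) E e ξ hξ' le_rfl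

/-- a torus quotient of a commutative group receives a torus surjectively -/
theorem exists_torus_lift {P T : Over (Spec (CommRingCat.of k))} [GrpObj P] [GrpObj T] [Smooth P.hom]
    [QuasiCompact P.hom] [ConnectedSpace P.left] [IsCommMonObj P] (hT : Red.IsTorus T) (q : P ⟶ T) [IsMonHom q]
    (hq : IsCov q) :
    ∃ (S : Over (Spec (CommRingCat.of k))) (_ : GrpObj S) (s : S ⟶ P), IsMonHom s ∧ Red.IsTorus S ∧
      Surjective (s ≫ q).left := by
  obtain ⟨_, _, _, _, _⟩ := AlgGrp33.IsogSub.torus_props hT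
  haveI := hq.surj
  obtain ⟨H, _, h, P', _, π, hh, hhcl, hHs, hHa, hHc, hπm, hπ, hker, hP's, hP'c, hP'p⟩ :=
    exists_affine_proper_quotient P
  haveI := hh
  haveI := hhcl
  haveI := hHs
  haveI := hHa
  haveI := hHc
  haveI := hπm
  haveI := hP's
  haveI := hP'c
  haveI := hP'p
  haveI := isSeparated_grp T
  -- the image of the affine part is everything
  haveI hsurj : Surjective (h ≫ q).left := by
    obtain ⟨V, _, v, p, hv, hvcl, hpm, hpv, hp, hVs, hVq, hVc, -⟩ := exists_smooth_image (h ≫ q)
    haveI := hv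
    haveI := hvcl
    haveI := hpm
    haveI := hVs
    haveI := hVq
    haveI := hp.surj
    haveI : Mono v := Over.mono_of_mono_left v
    have hnorm : AlgGrp.IsNormalHom v := fun X g y => ⟨y, by rw [mul_comm g, mul_inv_cancel_right]⟩
    obtain ⟨T', _, r, hrm, hT'a, hT'ft, hrflat, hrsurj, hrker⟩ := AffineQuot.exists_quotient v hnorm
    haveI := hrm
    haveI := hT'a
    haveI := hrflat
    haveI := hrsurj
    have hkill : h ≫ q ≫ r = 1 := by
      rw [← Category.assoc, ← hpv, Category.assoc, show v ≫ r = 1 by simpa using isKernel_comp_one hrker (𝟙 V),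
        MonObj.comp_one]
    obtain ⟨d, hd⟩ := hπ.desc (q ≫ r) fun X a b hab => by
      obtain ⟨c, hc⟩ := exists_ker_of_comp_one hker (a⁻¹ * b) (by
        rw [MonObj.mul_comp, GrpObj.inv_comp, hab, inv_mul_cancel])
      have hb : b = a * (c ≫ h) := by rw [hc, mul_inv_cancel_left]
      rw [hb, MonObj.mul_comp _ _ (q ≫ r), Category.assoc, hkill, MonObj.comp_one, _root_.mul_one]
    haveI : GeometricallyIntegral P'.hom := AlgGrp33.IsogSub.geometricallyIntegral_of_smooth P'
    have hanti : AntiAff P' := Alb96.antiAffine_of_geometricallyIntegral P'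
    haveI : IsMonHom d := by
      haveI := (hπ.whiskerRight P').epi
      haveI := (hπ.whiskerLeft P).epi
      have hm : (fst P' P' * snd P' P') ≫ d = (fst P' P' ≫ d) * (snd P' P' ≫ d) := by
        rw [← cancel_epi (π ▷ P'), ← cancel_epi (P ◁ π)]
        simp only [← Category.assoc]
        have e1 : ((P ◁ π) ≫ π ▷ P') ≫ fst P' P' = fst P P ≫ π := by simp
        have e2 : ((P ◁ π) ≫ π ▷ P') ≫ snd P' P' = snd P P ≫ π := by simp
        rw [MonObj.comp_mul, MonObj.comp_mul, e1, e2, ← MonObj.mul_comp, Category.assoc, hd,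
          ← Category.assoc _ (fst P' P') d, e1, ← Category.assoc _ (snd P' P') d, e2, Category.assoc, Category.assoc,
          hd, MonObj.mul_comp]
      refine AlgGrp79.isMonHom_of_forall d fun X a b => ?_
      have := lift a b ≫= hm
      rwa [← Category.assoc, MonObj.comp_mul, MonObj.comp_mul, lift_fst, lift_snd, lift_fst_assoc, lift_snd_assoc]
        at this
    have hqr : q ≫ r = 1 := by rw [← hd, AlgGrp33.Affinize.eq_one hanti d, MonObj.comp_one]
    obtain ⟨b, hb⟩ := exists_ker_of_comp_one hrker q hqr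
    haveI : Surjective v.left := by
      haveI : Surjective (b.left ≫ v.left) := by rw [← Over.comp_left, hb]; infer_instance
      exact Surjective.of_comp b.left v.left
    rw [← hpv, Over.comp_left]; infer_instance
  obtain ⟨S, _, s, hsmax⟩ := AGF80.Nilp.exists_isMaxTorus H
  obtain ⟨hsm, hsmono, hSt, -⟩ := id hsmax
  haveI := hsm
  obtain ⟨V, _, v, w, hv, hvcl, hwm, hw, hwv, hVt⟩ := exists_torus_image hSt (s ≫ h ≫ q)
  haveI := hv
  haveI := hvcl
  haveI := hw.surj
  obtain ⟨_, _, _, _, _⟩ := AlgGrp33.IsogSub.torus_props hVt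
  haveI : IsReduced V.left := isReduced_of_smooth V.hom
  obtain ⟨-, -, -, hVmax⟩ := TorusImage.isMaxTorus_image (h ≫ q) hsmax v w hwv
  haveI : IsIso v := hVmax T (𝟙 T) v hT (Category.comp_id v)
  haveI : IsIso v.left := ((Over.forget _).mapIso (asIso v)).isIso_hom
  refine ⟨S, inferInstance, s ≫ h, inferInstance, hSt, ?_⟩
  rw [Category.assoc, ← hwv, Over.comp_left]
  infer_instance

/-- the image in the affinization of a maximal torus is a maximal torus -/
theorem Affn.image_maxTorus {G : Over (Spec (CommRingCat.of k))} [GrpObj G] [Smooth G.hom] [QuasiCompact G.hom]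
    [ConnectedSpace G.left] (A : Affn G) {T : Over (Spec (CommRingCat.of k))} [GrpObj T] {i : T ⟶ G}
    (hi : AGF.IsMaxTorus i) :
    ∃ (V : Over (Spec (CommRingCat.of k))) (_ : GrpObj V) (v : V ⟶ A.Q) (w : T ⟶ V), IsMonHom w ∧ IsCov w ∧
      w ≫ v = i ≫ A.q ∧ IsClosedImmersion v.left ∧ AGF.IsMaxTorus v := by
  obtain ⟨him, himono, hTt, hmax⟩ := hi
  haveI := him
  haveI := himono
  haveI := A.cov.surj
  obtain ⟨V, _, v, w, hv, hvcl, hwm, hw, hwv, hVt⟩ := exists_torus_image hTt (i ≫ A.q)
  haveI := hv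
  haveI := hvcl
  haveI := hw.surj
  haveI : Mono v := Over.mono_of_mono_left v
  refine ⟨V, inferInstance, v, w, hwm, hw, hwv, hvcl, inferInstance, inferInstance, hVt, ?_⟩
  intro V' _ j _ _ f hV' hf
  obtain ⟨_, _, _, _, _⟩ := AlgGrp33.IsogSub.torus_props hV'
  obtain ⟨T₀, _, j₀, hj₀, hj₀cl, hT₀, huniv⟩ := exists_universal_torus A.Q
  haveI := hj₀
  haveI := hj₀cl
  obtain ⟨_, _, _, _, _⟩ := AlgGrp33.IsogSub.torus_props hT₀
  obtain ⟨g, ψ, hψ⟩ := huniv V' hV' j
  let W := AGF.conjBy g j₀
  haveI := BorelConj.isMonHom_conjBy g j₀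
  haveI : IsClosedImmersion W.left := BorelConj.isClosedImmersion_conjBy g j₀
  haveI : Mono W := Over.mono_of_mono_left W
  obtain ⟨P, _, c, π, hc, hccl, hπm, hπ, hPft, hPqc, sq⟩ := exists_preimage A.q A.cov W
  haveI := hc
  haveI := hccl
  haveI := hπm
  haveI := hPft
  haveI := hPqc
  haveI := hπ.surj
  haveI : Mono c := Over.mono_of_mono_left c
  obtain ⟨hPs, -, hPc, -⟩ := A.preimage_props c π hπ W sq
  haveI := hPs
  haveI := hPc inferInstance
  have hcomm := A.comm_of_torus_image c hT₀ π hπ W sq.w.symm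
  haveI : IsCommMonObj P := AlgGrp33.IsogSub.isCommMonObj_of_pts fun {X} a b => by
    rw [← cancel_mono c, MonObj.mul_comp, MonObj.mul_comp]
    exact hcomm X a b
  obtain ⟨S, _, s, hs, hSt, hssurj⟩ := exists_torus_lift hT₀ π hπ
  haveI := hs
  haveI := hssurj
  obtain ⟨a, ha, -⟩ := sq.exists_lift i (w ≫ f ≫ ψ) (by rw [Category.assoc, Category.assoc, hψ, hf, hwv])
  obtain ⟨S', _, j', hj', hj'mono, hS', ⟨x, hx⟩, y, hy⟩ := exists_torus_ge hTt hSt i (s ≫ c) fun X t z => by
    rw [← ha, ← Category.assoc, ← Category.assoc]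
    exact hcomm X _ _
  haveI := hj'
  haveI := hj'mono
  haveI : IsIso x := hmax S' j' x hS' hx
  have key : y ≫ inv x ≫ w ≫ f ≫ ψ = s ≫ π := by
    rw [← cancel_mono W]
    simp only [Category.assoc]
    rw [hψ, hf, hwv, ← Category.assoc (inv x), IsIso.inv_comp_eq x |>.2 hx.symm, ← Category.assoc y, hy, Category.assoc,
      sq.w]
  haveI := isSeparated_grp A.Q
  haveI : IsClosedImmersion (f ≫ ψ).left := by
    haveI : IsClosedImmersion ((f ≫ ψ).left ≫ W.left) := by
      rw [← Over.comp_left, Category.assoc, hψ, hf]; infer_instance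
    exact IsClosedImmersion.of_comp (f ≫ ψ).left W.left
  haveI : Surjective (f ≫ ψ).left := by
    haveI : Surjective ((y ≫ inv x ≫ w).left ≫ (f ≫ ψ).left) := by
      rw [← Over.comp_left, Category.assoc, Category.assoc, key]; exact hssurj
    exact Surjective.of_comp (y ≫ inv x ≫ w).left (f ≫ ψ).left
  haveI : IsReduced T₀.left := isReduced_of_smooth T₀.hom
  haveI : IsIso (f ≫ ψ) := BorelConj.isIso_of_surj _
  haveI : Mono ψ := by
    haveI : Mono (ψ ≫ W) := by rw [hψ]; infer_instance
    exact mono_of_mono ψ W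
  refine ⟨ψ ≫ inv (f ≫ ψ), by rw [← Category.assoc, IsIso.hom_inv_id], ?_⟩
  rw [← cancel_mono ψ]
  simp only [Category.assoc, IsIso.inv_hom_id, Category.comp_id, Category.id_comp]

end Groth.Agent.SGA3a.NonAff
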