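import Groth.Agent.SGA3a.NonAff.Borel
import Groth.Agent.SGA3a.NonAff.CartanImage

/-!
Borel subgroups and homomorphisms whose kernel lies in the radical.
-/

set_option autoImplicit false
set_option linter.unusedSectionVars false
set_option linter.style.haveILetI false
set_option backward.isDefEq.respectTransparency.types false

universe u

open CategoryTheory MonoidalCategory CartesianMonoidalCategory MonObj GrpObj AlgebraicGeometry

noncomputable section

namespace Groth.Agent.SGA3a.NonAff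

open AlgGrp79

variable {k : Type u} [Field k] [IsAlgClosed k]

local notation "pk" => 𝟙_ (Over (Spec (CommRingCat.of k)))

/-- Borel subgroups transport along isomorphisms over the group -/
theorem isBorelOver_of_iso {G B B₀ : Over (Spec (CommRingCat.of k))} [GrpObj G] [GrpObj B] [GrpObj B₀]
    {b : B ⟶ G} [IsMonHom b] {b₀ : B₀ ⟶ G} (φ : B ≅ B₀) (hφ : φ.hom ≫ b₀ = b) (h : Red.IsBorelOver k b₀) :
    Red.IsBorelOver k b := by
  obtain ⟨hm, hcl, hs, hc, ⟨n, hn⟩, -⟩ := id h
  haveI := hm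
  haveI := hcl
  haveI := hs
  haveI := hc
  haveI : Mono b₀ := Over.mono_of_mono_left b₀
  haveI : IsMonHom φ.hom := AlgGrp33.AffineProper.isMonHom_of_mono φ.hom b₀ b hφ
  haveI : IsIso φ.hom.left := ((Over.forget _).mapIso φ).isIso_hom
  refine ⟨inferInstance, ?_, ?_, ?_, ⟨n, fun X => ?_⟩, ?_⟩
  · rw [← hφ, Over.comp_left]; infer_instance
  · rw [← Over.w φ.hom]; infer_instance
  · haveI : IsIso φ.inv.left := ((Over.forget _).mapIso φ).isIso_inv
    exact φ.inv.left.surjective.connectedSpace φ.inv.left.continuous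
  · let ψ : (X ⟶ B) →* (X ⟶ B₀) := IsMonHom.monoidHom φ.hom X
    have hψ : Function.Injective ψ := fun x y e => (cancel_mono φ.hom).1 e
    have := map_derivedSeries_le_derivedSeries ψ n
    rw [hn X, le_bot_iff, Subgroup.map_eq_bot_iff_of_injective _ hψ] at this
    exact this
  · intro B' _ i' _ f h1 h2 h3 h4 hf
    haveI := h.2.2.2.2.2 B' i' (φ.inv ≫ f) h1 h2 h3 h4 (by rw [Category.assoc, hf, ← hφ, Iso.inv_hom_id_assoc])
    exact IsIso.of_isIso_comp_left φ.inv f

variable {G G' : Over (Spec (CommRingCat.of k))} [GrpObj G] [GrpObj G'] [Smooth G.hom] [QuasiCompact G.hom]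
  [ConnectedSpace G.left]

/-- a normal solvable connected subgroup lies in every Borel subgroup -/
theorem normal_le_borel {R : Over (Spec (CommRingCat.of k))} [GrpObj R] (r : R ⟶ G) [IsMonHom r]
    [IsClosedImmersion r.left] [Smooth R.hom] [ConnectedSpace R.left] (hR : Red.IsSolvableGrp R)
    (hn : ∀ (X : Over (Spec (CommRingCat.of k))) (g : X ⟶ G) (x : X ⟶ R), ∃ x' : X ⟶ R, g * (x ≫ r) * g⁻¹ = x' ≫ r)
    {B : Over (Spec (CommRingCat.of k))} [GrpObj B] {b : B ⟶ G} (hB : Red.IsBorelOver k b) :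
    ∃ f : R ⟶ B, f ≫ b = r := by
  obtain ⟨B₁, _, b₁, f, hB₁, hf⟩ := exists_borel_ge r hR
  obtain ⟨g, φ, hφ⟩ := borel_conj hB₁ hB
  obtain ⟨x, hx⟩ := hn R (toUnit R ≫ g⁻¹) (𝟙 R)
  refine ⟨x ≫ f ≫ φ.hom, ?_⟩
  rw [Category.assoc, Category.assoc, hφ, BorelConj.comp_conjBy, BorelConj.comp_conjBy, hf, ← hx, Category.id_comp]
  simp only [AGF.conjBy, GrpObj.comp_inv]
  group

variable [Smooth G'.hom] [QuasiCompact G'.hom] [ConnectedSpace G'.left] (u : G ⟶ G') [IsMonHom u]
  [Surjective u.left] {R : Over (Spec (CommRingCat.of k))} [GrpObj R] (r : R ⟶ G) [IsMonHom r]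
  [IsClosedImmersion r.left] [Smooth R.hom] [ConnectedSpace R.left] (hR : Red.IsSolvableGrp R)
  (hn : ∀ (X : Over (Spec (CommRingCat.of k))) (g : X ⟶ G) (x : X ⟶ R), ∃ x' : X ⟶ R, g * (x ≫ r) * g⁻¹ = x' ≫ r)
  (hker : ∀ (X : Over (Spec (CommRingCat.of k))) (g : X ⟶ G), g ≫ u = 1 → ∃ x : X ⟶ R, x ≫ r = g)

include hR hn hker

/-- a Borel subgroup is the preimage of its image, which is a Borel subgroup -/
theorem exists_borel_image_of_radical {B : Over (Spec (CommRingCat.of k))} [GrpObj B] {b : B ⟶ G}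
    (hB : Red.IsBorelOver k b) :
    ∃ (V : Over (Spec (CommRingCat.of k))) (_ : GrpObj V) (v : V ⟶ G') (p : B ⟶ V),
      Red.IsBorelOver k v ∧ IsMonHom p ∧ IsCov p ∧ IsPullback b p u v := by
  obtain ⟨hbm, hbcl, hBs, hBc, hBsol, -⟩ := id hB
  haveI := hbm
  haveI := hbcl
  haveI := hBs
  haveI := hBc
  haveI : Mono b := Over.mono_of_mono_left b
  haveI : QuasiCompact B.hom := by rw [← Over.w b]; infer_instance
  haveI : Mono r := Over.mono_of_mono_left r
  obtain ⟨f, hf⟩ := normal_le_borel r hR hn hB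
  obtain ⟨V, _, v, p, hv, hvcl, hpm, hpv, hp, hVs, hVq, hVc, hVsol⟩ := exists_smooth_image (b ≫ u)
  haveI := hv
  haveI := hvcl
  haveI := hVs
  haveI := hVq
  haveI := hpm
  haveI := hVc inferInstance
  haveI : IsReduced V.left := isReduced_of_smooth V.hom
  haveI : Mono v := Over.mono_of_mono_left v
  haveI := hp.surj
  -- the Borel subgroup is the preimage
  obtain ⟨P, _, c, π, hcm, hccl, hπm, -, -, -, sqP⟩ := exists_preimage u (isCov_of_surjective u) v
  haveI := hcm
  haveI := hccl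
  haveI : Mono c := Over.mono_of_mono_left c
  obtain ⟨a, ha, ha2⟩ := sqP.exists_lift b p hpv.symm
  have sqW := IsPullback.of_hasPullback p π
  have hW : IsCov (Limits.pullback.snd p π) := hp.of_isPullback sqW
  obtain ⟨x, hx⟩ := hker _ ((Limits.pullback.fst p π ≫ b)⁻¹ * (Limits.pullback.snd p π ≫ c)) (by
    rw [MonObj.mul_comp, GrpObj.inv_comp, Category.assoc, Category.assoc, sqP.w, ← hpv,
      ← Category.assoc (Limits.pullback.fst p π), Limits.pullback.condition, Category.assoc, inv_mul_cancel])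
  obtain ⟨d, hd⟩ := hW.desc (Limits.pullback.fst p π * (x ≫ f)) fun T s t hst => by
    rw [← cancel_mono b]
    simp only [MonObj.comp_mul, MonObj.mul_comp, Category.assoc, hf, hx, GrpObj.comp_inv, mul_inv_cancel_left]
    rw [reassoc_of% hst]
  haveI := hW.epi
  have hdc : d ≫ b = c := by
    rw [← cancel_epi (Limits.pullback.snd p π), reassoc_of% hd]
    simp only [MonObj.mul_comp, Category.assoc, hf, hx, mul_inv_cancel_left]
  let E : P ≅ B := ⟨d, a, by rw [← cancel_mono c, Category.assoc, ha, hdc, Category.id_comp],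
    by rw [← cancel_mono b, Category.assoc, hdc, ha, Category.id_comp]⟩
  have sq : IsPullback b p u v :=
    sqP.of_iso E (Iso.refl _) (Iso.refl _) (Iso.refl _) (by simp [E, hdc]) (by simp [E, ← ha2, ← Category.assoc, E.hom_inv_id])
      (by simp) (by simp)
  refine ⟨V, inferInstance, v, p, ⟨inferInstance, inferInstance, inferInstance, inferInstance, hVsol hBsol, ?_⟩,
    hpm, hp, sq⟩
  -- maximality
  intro V' _ v' _ e hv'cl hV's hV'c hV'sol he
  haveI := hv'cl
  haveI := hV's
  haveI := hV'c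
  haveI : QuasiCompact V'.hom := by rw [← Over.w v']; infer_instance
  haveI : Mono v' := Over.mono_of_mono_left v'
  haveI : IsReduced B.left := isReduced_of_smooth B.hom
  haveI : IsReduced V'.left := isReduced_of_smooth V'.hom
  obtain ⟨P', _, c', π', hc'm, hc'cl, hπ'm, hπ', hP'ft, hP'qc, sq'⟩ := exists_preimage u (isCov_of_surjective u) v'
  haveI := hc'm
  haveI := hc'cl
  haveI := hπ'm
  haveI := hP'ft
  haveI := hP'qc
  haveI := hπ'.surj
  obtain ⟨K, _, z, hzm, hzcl, hKs, hKc, hzop⟩ := BorelQuot.exists_reduced_neutral P'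
  haveI := hzm
  haveI := hzcl
  haveI := hKs
  haveI := hKc
  haveI : QuasiCompact K.hom := by rw [← Over.w z]; infer_instance
  haveI : Mono z := Over.mono_of_mono_left z
  haveI : Mono c' := Over.mono_of_mono_left c'
  have hKsol : Red.IsSolvableGrp K := by
    obtain ⟨n₁, hn₁⟩ := hR
    obtain ⟨n₂, hn₂⟩ := hV'sol
    refine ⟨n₂ + n₁, fun X => ?_⟩
    let φ : (X ⟶ K) →* (X ⟶ V') := IsMonHom.monoidHom (z ≫ π') X
    let ψ : (X ⟶ K) →* (X ⟶ G) := IsMonHom.monoidHom (z ≫ c') X
    let ρ : (X ⟶ R) →* (X ⟶ G) := IsMonHom.monoidHom r X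
    have h1 : (derivedSeries (X ⟶ K) n₂).map ψ ≤ ρ.range := by
      rintro _ ⟨y, hy, rfl⟩
      have hy' : φ y = 1 := by
        have := map_derivedSeries_le_derivedSeries φ n₂ (Subgroup.mem_map_of_mem φ hy)
        rwa [hn₂ X, Subgroup.mem_bot] at this
      obtain ⟨w, hw⟩ := hker X (y ≫ z ≫ c') (by
        have : y ≫ z ≫ π' = 1 := hy'
        rw [Category.assoc, Category.assoc, sq'.w, ← Category.assoc z, ← Category.assoc y, this, MonObj.one_comp])
      exact ⟨w, hw⟩
    have h2 : ∀ m, (derivedSeries (X ⟶ K) (n₂ + m)).map ψ ≤ (derivedSeries (X ⟶ R) m).map ρ := by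
      intro m
      induction m with
      | zero => rw [derivedSeries_zero, ← MonoidHom.range_eq_map]; exact h1
      | succ m ih =>
        rw [← Nat.add_assoc, derivedSeries_succ (X ⟶ K), derivedSeries_succ (X ⟶ R), Subgroup.map_commutator,
          Subgroup.map_commutator]
        exact Subgroup.commutator_mono ih ih
    have hψ : Function.Injective ψ := fun x y e => (cancel_mono (z ≫ c')).1 e
    have := h2 n₁
    rwa [hn₁ X, Subgroup.map_bot, le_bot_iff, Subgroup.map_eq_bot_iff_of_injective _ hψ] at this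
  obtain ⟨bP, hbP, hbP2⟩ := sq'.exists_lift b (p ≫ e) (by rw [Category.assoc, he, hpv])
  haveI : IsMonHom bP := AlgGrp33.AffineProper.isMonHom_of_mono bP c' b hbP
  obtain ⟨bK, hbKm, hbK⟩ := exists_factor_open z hzop bP
  haveI : IsClosedImmersion (z ≫ c').left := inferInstanceAs (IsClosedImmersion (z.left ≫ c'.left))
  haveI : IsIso bK := hB.2.2.2.2.2 K (z ≫ c') bK inferInstance inferInstance inferInstance hKsol
    (by rw [← Category.assoc, hbK, hbP])
  haveI := surjective_comp_open z hzop π' fun y => BorelImage.exists_pt_lift π' y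
  haveI : IsClosedImmersion e.left := by
    haveI := isSeparated_grp G'
    haveI : IsClosedImmersion (e.left ≫ v'.left) := by rw [← Over.comp_left, he]; infer_instance
    exact IsClosedImmersion.of_comp e.left v'.left
  haveI : Surjective e.left := by
    haveI : IsIso bK.left := ((Over.forget _).mapIso (asIso bK)).isIso_hom
    haveI : Surjective (p.left ≫ e.left) := by
      rw [← Over.comp_left, ← hbP2, ← hbK, Category.assoc, Over.comp_left]; infer_instance
    exact Surjective.of_comp p.left e.left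
  exact BorelConj.isIso_of_surj e

/-- preimages of Borel subgroups are Borel subgroups -/
theorem isBorelOver_preimage_of_radical {B' B : Over (Spec (CommRingCat.of k))} [GrpObj B'] [GrpObj B]
    {b' : B' ⟶ G'} (hB' : Red.IsBorelOver k b') (b : B ⟶ G) [IsMonHom b] (v : B ⟶ B')
    (sq : IsPullback b v u b') : Red.IsBorelOver k b := by
  obtain ⟨A⟩ := nonempty_affn G
  obtain ⟨B₀, _, i₀, hB₀⟩ := AGF80.BorelCor.exists_borel A.Q
  obtain ⟨_, _, _, _, -⟩ := id hB₀
  obtain ⟨P, _, c, π, hcm, hccl, hπm, hπ, -, -, sq₀⟩ := exists_preimage A.q A.cov i₀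
  haveI := hcm
  haveI := hccl
  haveI := hπm
  have hc := A.borel_preimage hB₀ c π hπ sq₀
  obtain ⟨V, _, vV, p, hV, -, -, sqV⟩ := exists_borel_image_of_radical u r hR hn hker hc
  obtain ⟨g', φ, hφ⟩ := borel_conj hV hB'
  obtain ⟨g, rfl⟩ := BorelImage.exists_pt_lift u g'
  haveI := BorelConj.isMonHom_conjBy g c
  haveI : Mono c := Over.mono_of_mono_left c
  haveI : Mono b := by
    haveI : Mono b' := by
      haveI := hB'.2.1
      exact Over.mono_of_mono_left b'
    exact ⟨fun {Z} x y h => sq.hom_ext h (by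
      rw [← cancel_mono b', Category.assoc, Category.assoc, ← sq.w, reassoc_of% h])⟩
  have hconj : ∀ (h : pk ⟶ G) {W : Over (Spec (CommRingCat.of k))} (j : W ⟶ G),
      AGF.conjBy h j ≫ u = AGF.conjBy (h ≫ u) (j ≫ u) := fun h W j => by
    simp only [AGF.conjBy, MonObj.mul_comp, GrpObj.inv_comp, Category.assoc]
  obtain ⟨x, hx, -⟩ := sq.exists_lift (AGF.conjBy g c) (p ≫ φ.hom) (by
    rw [hconj, sqV.w, Category.assoc, hφ, BorelConj.comp_conjBy])
  obtain ⟨y, hy, -⟩ := sqV.exists_lift (AGF.conjBy g⁻¹ b) (v ≫ φ.inv) (by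
    rw [hconj, sq.w, GrpObj.inv_comp, Category.assoc, ← BorelConj.comp_conjBy v]
    congr 1
    have e : AGF.conjBy (g ≫ u)⁻¹ (φ.hom ≫ b') = vV := by
      rw [hφ, BorelConj.conjBy_conjBy, inv_mul_cancel, BorelConj.conjBy_one]
    calc AGF.conjBy (g ≫ u)⁻¹ b' = φ.inv ≫ AGF.conjBy (g ≫ u)⁻¹ (φ.hom ≫ b') := by
          rw [BorelConj.comp_conjBy, Iso.inv_hom_id_assoc]
      _ = φ.inv ≫ vV := by rw [e])
  haveI : Mono (AGF.conjBy g c) := ⟨fun {Z} s t h => by
    rw [BorelConj.comp_conjBy, BorelConj.comp_conjBy] at h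
    have h' := congrArg (AGF.conjBy g⁻¹) h
    simp only [BorelConj.conjBy_conjBy, inv_mul_cancel, BorelConj.conjBy_one] at h'
    exact (cancel_mono c).1 h'⟩
  let E : B ≅ P := ⟨y, x, by
      rw [← cancel_mono b, Category.assoc, hx, BorelConj.comp_conjBy, hy, BorelConj.conjBy_conjBy, mul_inv_cancel,
        BorelConj.conjBy_one, Category.id_comp],
    by
      rw [← cancel_mono c, Category.assoc, hy, BorelConj.comp_conjBy, hx, BorelConj.conjBy_conjBy, inv_mul_cancel,
        BorelConj.conjBy_one, Category.id_comp]⟩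
  refine isBorelOver_of_iso E ?_ (BorelOps.isBorelOver_conjBy hc g)
  show y ≫ AGF.conjBy g c = b
  rw [BorelConj.comp_conjBy, hy, BorelConj.conjBy_conjBy, mul_inv_cancel, BorelConj.conjBy_one]

end Groth.Agent.SGA3a.NonAff
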